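import Cfsg.Agent.Lib.ConjAbelian.Basic
import Cfsg.Agent.Lib.Subnormal.Join
import Mathlib.GroupTheory.SchurZassenhaus
import Mathlib.Data.Nat.Factorization.Basic

/-!
# Lifting abelian subgroups from a quotient of a group with conjugate abelian subgroups
-/

set_option autoImplicit false

open Subgroup
open scoped Pointwise

namespace CfsgLib.ConjAbelian

universe u

variable {G : Type u} [Group G] [Finite G]

/-- The order of a normal subgroup's trace on every `p`-subgroup not inside it is the full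
`p`-part, as soon as `p` divides the index. -/
def OkPrime (M : Subgroup G) (p : ℕ) : Prop :=
  p ∣ M.index → ∀ S : Subgroup G, IsPGroup p ↥S → ¬ S ≤ M →
    Nat.card (S ⊓ M : Subgroup G) = p ^ (Nat.card M).factorization p

/-- A subgroup of prime-power order has trivial intersection or the whole `p`-part. -/
theorem okPrime_of_not_dvd (M : Subgroup G) (p : ℕ) [Fact p.Prime] (h : ¬ p ∣ Nat.card M) :
    OkPrime M p := by
  intro _ S hS _
  rw [Nat.factorization_eq_zero_of_not_dvd h, pow_zero, card_eq_one]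
  rw [eq_bot_iff]
  intro x ⟨hxS, hxM⟩
  obtain ⟨k, hk⟩ := hS.exists_orderOf_eq_pow ⟨x, hxS⟩
  rw [Subgroup.orderOf_mk] at hk
  have h1 := Subgroup.orderOf_dvd_natCard M hxM
  rw [hk] at h1
  rcases Nat.eq_zero_or_pos k with rfl | hk0
  · simpa using orderOf_eq_one_iff.mp (hk.trans (pow_zero p))
  · exact absurd ((dvd_pow_self p hk0.ne').trans h1) h

/-- A subgroup whose image in `G ⧸ M` is all of an abelian group has a nilpotent minimal form. -/
theorem exists_supplement (M : Subgroup G) [M.Normal] {A : Subgroup G} (hMA : M ≤ A)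
    (hA : ⁅A, A⁆ ≤ M) :
    ∃ H : Subgroup G, H ≤ A ∧ H ⊔ M = A ∧ Group.IsNilpotent ↥H ∧
      M.subgroupOf H ≤ frattini ↥H := by
  obtain ⟨H, ⟨hHA, hHM⟩, hmin⟩ := Set.Finite.exists_minimal
    (Set.toFinite {H : Subgroup G | H ≤ A ∧ H ⊔ M = A}) ⟨A, le_rfl, sup_eq_left.mpr hMA⟩
  have hmax : ∀ K : Subgroup H, IsCoatom K → M.subgroupOf H ≤ K := by
    intro K hK
    by_contra hle
    have h1 : K ⊔ M.subgroupOf H = ⊤ :=
      hK.2 _ (left_lt_sup.mpr hle)
    have h2 : (K.map H.subtype) ⊔ M = A := by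
      refine le_antisymm (sup_le ((map_subtype_le K).trans hHA) hMA) ?_
      rw [← hHM]
      refine sup_le ?_ le_sup_right
      have h3 := congrArg (map H.subtype) h1
      rw [Subgroup.map_sup, ← MonoidHom.range_eq_map, range_subtype, subgroupOf_map_subtype] at h3
      exact h3.ge.trans (sup_le_sup_left inf_le_left _)
    have h4 : H ≤ K.map H.subtype :=
      hmin ⟨(map_subtype_le K).trans hHA, h2⟩ (map_subtype_le K)
    refine hK.1 (eq_top_iff.mpr fun x _ => ?_)
    obtain ⟨y, hy, hyx⟩ := h4 x.2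
    rwa [show x = y from Subtype.ext hyx.symm]
  have hfr : M.subgroupOf H ≤ frattini H := le_iInf fun K => le_iInf fun hK => hmax K hK
  refine ⟨H, hHA, hHM, ?_, hfr⟩
  refine (Group.isNilpotent_of_finite_tfae.out 0 2 rfl rfl).mpr fun K hK => ⟨fun x hx g => ?_⟩
  have hc : g * x * g⁻¹ * x⁻¹ ∈ M.subgroupOf H := by
    show ((g * x * g⁻¹ * x⁻¹ : H) : G) ∈ M
    exact hA (commutator_mem_commutator (hHA g.2) (hHA x.2))
  have := mul_mem (hmax K hK hc) hx
  simpa using this

variable (M : Subgroup G) [M.Normal]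

theorem card_eq_card_subgroupOf_mul {A H : Subgroup G} (hH : H ⊔ M = A) :
    Nat.card H = Nat.card (M.subgroupOf H) * M.relIndex A := by
  rw [← hH, relIndex_sup_right, relIndex, card_mul_index]

theorem relIndex_dvd_index {A : Subgroup G} : M.relIndex A ∣ M.index :=
  relIndex_dvd_index_of_normal M A

theorem sylow_card_of_supplement {A H : Subgroup G} (hH : H ⊔ M = A)
    (hnil : Group.IsNilpotent ↥H) (hfr : M.subgroupOf H ≤ frattini ↥H) (p : ℕ) [Fact p.Prime]
    (hok : OkPrime M p) (S : Sylow p H) :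
    (¬ p ∣ M.relIndex A → (S : Subgroup H) = ⊥) ∧
      (p ∣ M.relIndex A → Nat.card (S : Subgroup H) =
        p ^ (Nat.card M).factorization p * p ^ (M.relIndex A).factorization p) := by
  set N := M.subgroupOf H with hN
  have hidx : N.index = M.relIndex A := by
    rw [← hH, relIndex_sup_right]; rfl
  have hSn : (S : Subgroup H).Normal :=
    (Group.isNilpotent_of_finite_tfae.out 0 3 rfl rfl).mp hnil p inferInstance S
  constructor
  · intro hnd
    have hle : (S : Subgroup H) ≤ N := by
      intro x hx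
      obtain ⟨k, hk⟩ := S.isPGroup'.exists_orderOf_eq_pow ⟨x, hx⟩
      rw [Subgroup.orderOf_mk] at hk
      have h1 : Nat.Coprime (M.relIndex A) (orderOf x) := by
        rw [hk]
        exact ((Nat.Prime.coprime_iff_not_dvd Fact.out).mpr hnd).symm.pow_right k
      obtain ⟨j, hj⟩ := exists_pow_eq_self_of_coprime h1
      rw [← hj]
      exact pow_mem (hidx ▸ N.pow_index_mem x) j
    obtain ⟨K, hK⟩ := exists_right_complement'_of_coprime (N := (S : Subgroup H)) S.card_coprime_index
    have hKtop : K = ⊤ := frattini_nongenerating (eq_top_iff.mpr (hK.sup_eq_top.ge.trans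
      (sup_le ((hle.trans hfr).trans le_sup_right) le_sup_left)))
    have h2 := hK.disjoint
    rw [hKtop, disjoint_top] at h2
    exact h2
  · intro hd
    have hSle : ¬ ((S : Subgroup H).map H.subtype ≤ M) := by
      intro hle
      refine S.not_dvd_index (hd.trans (hidx ▸ index_dvd_of_le ?_))
      intro x hx
      exact hle (mem_map_of_mem H.subtype hx)
    have h1 := hok (hd.trans (relIndex_dvd_index M))
      ((S : Subgroup H).map H.subtype) (S.isPGroup'.map _) hSle
    have h2 : Nat.card (N ⊓ (S : Subgroup H) : Subgroup H) = p ^ (Nat.card M).factorization p := by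
      rw [← h1, ← card_map_of_injective H.subtype_injective]
      congr 2
      ext x
      constructor
      · rintro ⟨y, ⟨hy1, hy2⟩, rfl⟩
        exact ⟨mem_map_of_mem _ hy2, hy1⟩
      · rintro ⟨⟨y, hy, rfl⟩, hyM⟩
        exact ⟨y, ⟨hyM, hy⟩, rfl⟩
    rw [CfsgLib.Subnormal.card_inf_sylow p (inferInstance : N.Normal).isSubnormal S] at h2
    rw [S.card_eq_multiplicity, card_eq_card_subgroupOf_mul M hH,
      Nat.factorization_mul Nat.card_pos.ne' (hidx ▸ FiniteIndex.index_ne_zero),
      Finsupp.add_apply, pow_add, ← h2]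

theorem card_supplement_eq {A B H K : Subgroup G} (hH : H ⊔ M = A) (hK : K ⊔ M = B)
    (hHnil : Group.IsNilpotent ↥H) (hKnil : Group.IsNilpotent ↥K)
    (hHfr : M.subgroupOf H ≤ frattini ↥H) (hKfr : M.subgroupOf K ≤ frattini ↥K)
    (hok : ∀ p : ℕ, p.Prime → OkPrime M p) (hn : M.relIndex A = M.relIndex B) :
    Nat.card H = Nat.card K := by
  refine Nat.eq_of_factorization_eq Nat.card_pos.ne' Nat.card_pos.ne' fun p => ?_
  by_cases hp : p.Prime
  · have := Fact.mk hp
    obtain ⟨S⟩ := (inferInstance : Nonempty (Sylow p H))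
    obtain ⟨T⟩ := (inferInstance : Nonempty (Sylow p K))
    obtain ⟨hS1, hS2⟩ := sylow_card_of_supplement M hH hHnil hHfr p (hok p hp) S
    obtain ⟨hT1, hT2⟩ := sylow_card_of_supplement M hK hKnil hKfr p (hok p hp) T
    apply Nat.pow_right_injective hp.two_le
    show p ^ _ = p ^ _
    rw [← S.card_eq_multiplicity, ← T.card_eq_multiplicity]
    by_cases hd : p ∣ M.relIndex A
    · rw [hS2 hd, hT2 (hn ▸ hd), hn]
    · rw [hS1 hd, hT1 (hn ▸ hd), card_bot, card_bot]
  · rw [Nat.factorization_eq_zero_of_not_prime _ hp, Nat.factorization_eq_zero_of_not_prime _ hp]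

omit [Finite G] in
theorem commutator_le_of_quotient {A : Subgroup (G ⧸ M)} (hA : IsMulCommutative ↥A) :
    ⁅A.comap (QuotientGroup.mk' M), A.comap (QuotientGroup.mk' M)⁆ ≤ M := by
  rw [commutator_le]
  intro a ha b hb
  rw [← QuotientGroup.eq_one_iff]
  show QuotientGroup.mk' M _ = 1
  rw [map_commutatorElement, commutatorElement_eq_one_iff_mul_comm]
  exact congrArg Subtype.val (hA.is_comm.comm ⟨_, ha⟩ ⟨_, hb⟩)

omit [Finite G] in
theorem relIndex_quotient_comap (A : Subgroup (G ⧸ M)) :
    M.relIndex (A.comap (QuotientGroup.mk' M)) = Nat.card A := by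
  have h := Subgroup.relIndex_comap (⊥ : Subgroup (G ⧸ M)) (QuotientGroup.mk' M)
    (A.comap (QuotientGroup.mk' M))
  rw [MonoidHom.comap_bot, QuotientGroup.ker_mk'] at h
  rw [h, map_comap_eq_self_of_surjective (QuotientGroup.mk'_surjective M), relIndex_bot_left]

omit [Finite G] in
theorem map_supplement {A : Subgroup (G ⧸ M)} {H : Subgroup G}
    (hH : H ⊔ M = A.comap (QuotientGroup.mk' M)) : H.map (QuotientGroup.mk' M) = A := by
  have := congrArg (map (QuotientGroup.mk' M)) hH
  rwa [map_comap_eq_self_of_surjective (QuotientGroup.mk'_surjective M), Subgroup.map_sup,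
    show M.map (QuotientGroup.mk' M) = ⊥ from (map_eq_bot_iff M).mpr (QuotientGroup.ker_mk' M).ge,
    sup_bot_eq] at this

/-- The general descent: conjugacy of the supplements gives conjugacy in the quotient. -/
theorem conj_of_supplements (hok : ∀ p : ℕ, p.Prime → OkPrime M p)
    (hconj : ∀ H K : Subgroup G, Group.IsNilpotent ↥H → Group.IsNilpotent ↥K →
      ⁅H, H⁆ ≤ M → ⁅K, K⁆ ≤ M →
      (∀ (p : ℕ), p.Prime → ∀ S : Sylow p H, (S : Subgroup H) ≠ ⊥ → p ∣ M.index) →
      (∀ (p : ℕ), p.Prime → ∀ S : Sylow p K, (S : Subgroup K) ≠ ⊥ → p ∣ M.index) →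
      Nat.card H = Nat.card K → ∃ g : G, K = H.map (MulAut.conj g).toMonoidHom)
    {A B : Subgroup (G ⧸ M)} (hA : IsMulCommutative ↥A) (hB : IsMulCommutative ↥B)
    (he : Nat.card A = Nat.card B) : ∃ g : G ⧸ M, B = A.map (MulAut.conj g).toMonoidHom := by
  have hMA : ∀ C : Subgroup (G ⧸ M), M ≤ C.comap (QuotientGroup.mk' M) := fun C => by
    intro m hm
    rw [mem_comap, QuotientGroup.mk'_apply, (QuotientGroup.eq_one_iff m).mpr hm]
    exact one_mem C
  obtain ⟨H, hHA, hH, hHnil, hHfr⟩ := exists_supplement M (hMA A) (commutator_le_of_quotient M hA)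
  obtain ⟨K, hKB, hK, hKnil, hKfr⟩ := exists_supplement M (hMA B) (commutator_le_of_quotient M hB)
  have hsyl : ∀ (C : Subgroup (G ⧸ M)) (L : Subgroup G), L ⊔ M = C.comap (QuotientGroup.mk' M) →
      Group.IsNilpotent ↥L → M.subgroupOf L ≤ frattini ↥L →
      ∀ (p : ℕ), p.Prime → ∀ S : Sylow p L, (S : Subgroup L) ≠ ⊥ → p ∣ M.index := by
    intro C L hL hnil hfr p hp S hS
    have := Fact.mk hp
    by_contra hnd
    exact hS ((sylow_card_of_supplement M hL hnil hfr p (hok p hp) S).1
      fun h => hnd (h.trans (relIndex_dvd_index M)))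
  obtain ⟨g, hg⟩ := hconj H K hHnil hKnil
    ((commutator_mono hHA hHA).trans (commutator_le_of_quotient M hA))
    ((commutator_mono hKB hKB).trans (commutator_le_of_quotient M hB))
    (hsyl A H hH hHnil hHfr) (hsyl B K hK hKnil hKfr)
    (card_supplement_eq M hH hK hHnil hKnil hHfr hKfr hok
      (by rw [relIndex_quotient_comap, relIndex_quotient_comap, he]))
  refine ⟨QuotientGroup.mk' M g, ?_⟩
  rw [← map_supplement M hH, ← map_supplement M hK, hg, map_map, map_map]
  congr 1

/-- A nilpotent group with commutative Sylow subgroups is commutative. -/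
theorem isMulCommutative_of_sylow {H : Subgroup G} (hnil : Group.IsNilpotent ↥H)
    (h : ∀ (p : ℕ), p.Prime → ∀ S : Sylow p H, IsMulCommutative ↥(S : Subgroup H)) :
    IsMulCommutative ↥H := by
  have hn : ∀ {p : ℕ} [Fact p.Prime] (S : Sylow p H), (S : Subgroup H).Normal := fun {p} _ S =>
    (Group.isNilpotent_of_finite_tfae.out 0 3 rfl rfl).mp hnil p inferInstance S
  let e := Sylow.directProductOfNormal (G := H) fun {p} _ S => hn S
  refine ⟨⟨fun a b => e.symm.injective ?_⟩⟩
  rw [map_mul, map_mul]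
  funext p S
  have := Fact.mk (Nat.prime_of_mem_primeFactors p.2)
  exact (h p (Nat.prime_of_mem_primeFactors p.2) S).is_comm.comm _ _

end CfsgLib.ConjAbelian
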