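import Cfsg.Agent.Lib.ConjAbelian.Basic
import Cfsg.Agent.Lib.Solvable.CoprimeAbelian
import Cfsg.Agent.Lib.Solvable.CoprimeGeneration
import Cfsg.Agent.Lib.Solvable.SchurZassenhaus

/-!
# Transitivity on the lines of an elementary abelian normal subgroup, and its consequences
-/

set_option autoImplicit false

open Subgroup
open scoped commutatorElement

namespace CfsgLib.ConjAbelian

universe u

variable {G : Type u} [Group G] [Finite G]

theorem mem_centralizer_zpowers_iff {a u : G} :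
    a ∈ centralizer (zpowers u : Set G) ↔ a * u = u * a := by
  constructor
  · intro h
    exact (mem_centralizer_iff.mp h u (mem_zpowers u)).symm
  · intro h
    refine mem_centralizer_iff.mpr ?_
    rintro _ ⟨i, rfl⟩
    exact ((show Commute a u from h).zpow_right i).eq.symm

/-- The stabilisers in `R` of the nontrivial elements of `N` have equal orders. -/
theorem card_stabilizer_eq (h : CA G) {F H N R : Subgroup G} [F.Normal] {q : ℕ} [Fact q.Prime]
    (hFN : F ≤ centralizer (N : Set G)) (htop : F ⊔ H = ⊤)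
    (hNexp : ∀ x ∈ N, x ^ q = 1) (hRH : H ≤ normalizer (R : Set G))
    {u w : G} (hu : u ∈ N) (hu1 : u ≠ 1) (hw : w ∈ N) (hw1 : w ≠ 1) :
    Nat.card (R ⊓ centralizer (zpowers u : Set G) : Subgroup G) =
      Nat.card (R ⊓ centralizer (zpowers w : Set G) : Subgroup G) := by
  obtain ⟨g, hg⟩ := h (zpowers u) (zpowers w) (zpowers_comm u) (zpowers_comm w)
    (by rw [Nat.card_zpowers, Nat.card_zpowers, orderOf_eq_prime (hNexp u hu) hu1,
      orderOf_eq_prime (hNexp w hw) hw1])
  have hH : H ≤ normalizer (F : Set G) := by rw [normalizer_eq_top]; exact le_top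
  obtain ⟨f, hf, k, hk, rfl⟩ := (CfsgLib.Solvable.mem_sup_of_le_normalizer hH).mp
    (show g ∈ F ⊔ H by rw [htop]; exact mem_top g)
  have hwk : zpowers w = (zpowers u).map (MulAut.conj k).toMonoidHom := by
    have hcf : ∀ x ∈ N, MulAut.conj f x = x := fun x hx => by
      rw [MulAut.conj_apply, ← mem_centralizer_iff.mp (hFN hf) x hx, mul_inv_cancel_right]
    have hfN : ∀ y ∈ zpowers w, MulAut.conj f⁻¹ y = y := fun y hy => by
      have : y ∈ N := zpowers_le.mpr hw hy
      conv_lhs => rw [← hcf y this]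
      simp [mul_assoc]
    ext y
    constructor
    · intro hy
      obtain ⟨x, hx, hxy⟩ := hg.le hy
      refine ⟨x, hx, ?_⟩
      rw [← hfN y hy, ← hxy]
      simp [mul_assoc]
    · rintro ⟨x, hx, rfl⟩
      obtain ⟨y, hy, hy'⟩ : ∃ y ∈ zpowers w, MulAut.conj (f * k) x = y :=
        ⟨_, hg.ge ⟨x, hx, rfl⟩, rfl⟩
      have h2 : MulAut.conj k x = MulAut.conj f⁻¹ y := by rw [← hy']; simp [mul_assoc]
      rw [MulEquiv.coe_toMonoidHom, h2, hfN y hy]
      exact hy
  have hRfix : R.map (MulAut.conj k).toMonoidHom = R := by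
    ext x
    constructor
    · rintro ⟨a, ha, rfl⟩
      exact (mem_normalizer_iff.mp (hRH hk) a).mp ha
    · intro hx
      refine ⟨k⁻¹ * x * k, ?_, by simp [mul_assoc]⟩
      exact (mem_normalizer_iff.mp (hRH hk) _).mpr (by simpa [mul_assoc] using hx)
  rw [← card_map_of_injective (f := (MulAut.conj k).toMonoidHom) (MulEquiv.injective _)
    (K := R ⊓ centralizer (zpowers u : Set G))]
  have hC : (centralizer (zpowers u : Set G)).map (MulAut.conj k).toMonoidHom =
      centralizer (zpowers w : Set G) := by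
    rw [hwk]
    ext x
    constructor
    · rintro ⟨a, ha, rfl⟩
      refine mem_centralizer_iff.mpr ?_
      rintro _ ⟨y, hy, rfl⟩
      rw [← map_mul, ← map_mul, mem_centralizer_iff.mp ha y hy]
    · intro hx
      refine ⟨k⁻¹ * x * k, mem_centralizer_iff.mpr fun y hy => ?_, by simp [mul_assoc]⟩
      have h1 := mem_centralizer_iff.mp hx _ ⟨y, hy, rfl⟩
      rw [MulEquiv.coe_toMonoidHom, MulAut.conj_apply] at h1
      have h2 := congrArg (fun z => k⁻¹ * z * k) h1
      simpa [mul_assoc] using h2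
  rw [map_inf _ _ _ (MulEquiv.injective _), hRfix, hC]

/-- An abelian group permuted as a whole by a group transitive on the lines of `N` is cyclic. -/
theorem isCyclic_of_transitive (h : CA G) {F H N R : Subgroup G} [F.Normal] [N.Normal] {q : ℕ}
    [Fact q.Prime] (hFN : F ≤ centralizer (N : Set G)) (htop : F ⊔ H = ⊤)
    (hNexp : ∀ x ∈ N, x ^ q = 1) (hN : N ≠ ⊥) [IsMulCommutative ↥N] [IsMulCommutative ↥R]
    (hRH : H ≤ normalizer (R : Set G)) (hcop : (Nat.card R).Coprime (Nat.card N))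
    (hfaith : R ⊓ centralizer (N : Set G) = ⊥) : IsCyclic ↥R := by
  by_contra hnc
  obtain ⟨a, ha, ha1, v, hv, hv1, hav⟩ :
      ∃ a ∈ R, a ≠ 1 ∧ ∃ v ∈ N, v ≠ 1 ∧ a * v = v * a := by
    by_contra hne
    push Not at hne
    refine hN (le_bot_iff.mp ?_)
    refine CfsgLib.Solvable.le_of_centralizer_le hnc (by rw [normalizer_eq_top]; exact le_top) hcop
      fun a ha ha1 x hx => ?_
    by_contra hx1
    exact hne a ha ha1 x hx.1 (fun e => hx1 (by rw [e]; exact one_mem _))
      (mem_centralizer_singleton_iff.mp hx.2).symm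
  set B := R ⊓ centralizer (zpowers v : Set G) with hB
  have haB : a ∈ B := ⟨ha, mem_centralizer_zpowers_iff.mpr hav⟩
  have hBN : B ≤ normalizer (N : Set G) := by rw [normalizer_eq_top]; exact le_top
  have hcopB : (Nat.card B).Coprime (Nat.card N) :=
    hcop.coprime_dvd_left (card_dvd_of_le inf_le_left)
  have hbot := CfsgLib.Solvable.centralizer_inf_commutator_eq_bot hBN hcopB
  have hsup := CfsgLib.Solvable.centralizer_sup_commutator_eq hBN hcopB
  obtain ⟨y, hy, hy1⟩ : ∃ y ∈ ⁅N, B⁆, y ≠ 1 := by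
    refine (bot_or_exists_ne_one _).resolve_left fun e => ha1 ?_
    rw [e, sup_bot_eq] at hsup
    have h2 : a ∈ R ⊓ centralizer (N : Set G) := ⟨ha, mem_centralizer_iff.mpr fun n hn =>
      (mem_centralizer_iff.mp (hsup.ge hn).2 a haB).symm⟩
    rwa [hfaith, mem_bot] at h2
  have hyN : y ∈ N := commutator_le_left N B hy
  have hvC : v ∈ N ⊓ centralizer (B : Set G) :=
    ⟨hv, mem_centralizer_iff.mpr fun b hb => (mem_centralizer_zpowers_iff.mp hb.2)⟩
  have hx1 : v * y ≠ 1 := fun e => hy1 (by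
    have h0 : y ∈ N ⊓ centralizer (B : Set G) := (eq_inv_of_mul_eq_one_right e) ▸ inv_mem hvC
    have h1 : y ∈ N ⊓ centralizer (B : Set G) ⊓ ⁅N, B⁆ := ⟨h0, hy⟩
    rwa [hbot, mem_bot] at h1)
  have hle : R ⊓ centralizer (zpowers (v * y) : Set G) ≤
      B ⊓ (R ⊓ centralizer (zpowers y : Set G)) := by
    intro c hc'
    obtain ⟨hcR, hc⟩ := Subgroup.mem_inf.mp hc'
    rw [mem_centralizer_zpowers_iff] at hc
    have hcomm : ∀ b ∈ B, c * b = b * c := fun b hb =>
      congrArg Subtype.val ((inferInstance : IsMulCommutative ↥R).is_comm.comm ⟨c, hcR⟩ ⟨b, hb.1⟩)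
    set f := (MulAut.conj c).toMonoidHom
    have hfB : B.map f = B := by
      ext x
      constructor
      · rintro ⟨b, hb, rfl⟩
        show c * b * c⁻¹ ∈ B
        rwa [hcomm b hb, mul_inv_cancel_right]
      · intro hx
        exact ⟨x, hx, show c * x * c⁻¹ = x by rw [hcomm x hx, mul_inv_cancel_right]⟩
    have hfN : N.map f = N := le_antisymm (map_conj_le le_rfl c) fun x hx =>
      ⟨c⁻¹ * x * c, by simpa using (inferInstance : N.Normal).conj_mem x hx c⁻¹,
        by simp [f, mul_assoc]⟩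
    have h1 : f v ∈ N ⊓ centralizer (B : Set G) := by
      refine ⟨hfN.le (mem_map_of_mem f hv), mem_centralizer_iff.mpr fun b hb => ?_⟩
      have h3 : f b = b := show c * b * c⁻¹ = b by rw [hcomm b hb, mul_inv_cancel_right]
      rw [← h3, ← map_mul, ← map_mul, mem_centralizer_iff.mp hvC.2 b hb]
    have h2 : f y ∈ ⁅N, B⁆ := by
      have h3 := mem_map_of_mem f hy
      rwa [map_commutator, hfN, hfB] at h3
    have h4 : f v * f y = v * y := by
      rw [← map_mul]
      show c * (v * y) * c⁻¹ = v * y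
      rw [hc, mul_inv_cancel_right]
    have h5 : v⁻¹ * f v = y * (f y)⁻¹ := by
      rw [eq_mul_inv_iff_mul_eq, mul_assoc, h4, inv_mul_cancel_left]
    have h6a : v⁻¹ * f v ∈ N ⊓ centralizer (B : Set G) := mul_mem (inv_mem hvC) h1
    have h6b : v⁻¹ * f v ∈ ⁅N, B⁆ := h5 ▸ mul_mem hy (inv_mem h2)
    have h6 : v⁻¹ * f v ∈ (N ⊓ centralizer (B : Set G)) ⊓ ⁅N, B⁆ := ⟨h6a, h6b⟩
    rw [hbot, mem_bot] at h6
    have hfv : f v = v := (inv_mul_eq_one.mp h6).symm
    have hfy : f y = y := by rw [hfv] at h4; exact mul_left_cancel h4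
    refine ⟨⟨hcR, mem_centralizer_zpowers_iff.mpr ?_⟩, ⟨hcR, mem_centralizer_zpowers_iff.mpr ?_⟩⟩
    · exact mul_inv_eq_iff_eq_mul.mp hfv
    · exact mul_inv_eq_iff_eq_mul.mp hfy
  have hxN : v * y ∈ N := mul_mem hv hyN
  have hxv := card_stabilizer_eq h hFN htop hNexp hRH hxN hx1 hv hv1
  have hyv := card_stabilizer_eq h hFN htop hNexp hRH hyN hy1 hv hv1
  have e1 := eq_of_le_of_card_ge (hle.trans inf_le_left) hxv.ge
  have e2 := eq_of_le_of_card_ge (hle.trans inf_le_right) (hxv.trans hyv.symm).ge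
  have hyC : y ∈ (N ⊓ centralizer (B : Set G)) ⊓ ⁅N, B⁆ :=
    ⟨⟨hyN, mem_centralizer_iff.mpr fun b hb =>
      mem_centralizer_zpowers_iff.mp (e2.le (e1.ge hb)).2⟩, hy⟩
  rw [hbot, mem_bot] at hyC
  exact hy1 hyC

end CfsgLib.ConjAbelian
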