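import Cfsg.Agent.Lib.ConjAbelian.Solvable
import Cfsg.Agent.Lib.ConjAbelian.Semiregular
import Cfsg.Agent.Lib.Solvable.Hall
import Cfsg.Agent.Lib.Solvable.CoprimeAbelian
import Mathlib.GroupTheory.SpecificGroups.Cyclic
import Mathlib.RingTheory.IntegralDomain

/-!
# Sylow subgroups when all minimal normal subgroups have prime order
-/

set_option autoImplicit false

open Subgroup
open scoped commutatorElement

namespace CfsgLib.ConjAbelian

universe u

variable {H : Type u} [Group H] [Finite H]

/-- Commutators centralise every cyclic normal subgroup. -/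
theorem commutator_mem_centralizer_of_cyclic {O : Subgroup H} [O.Normal] [IsCyclic ↥O] (a b : H) :
    ⁅a, b⁆ ∈ centralizer (O : Set H) := by
  have hcomm : ∀ φ ψ : MulAut O, φ * ψ = ψ * φ := fun φ ψ => by
    apply (IsCyclic.mulAutMulEquiv O).injective
    rw [map_mul, map_mul, mul_comm]
  have h1 : MulAut.conjNormal ⁅a, b⁆ = (1 : MulAut O) := by
    rw [map_commutatorElement, commutatorElement_eq_one_iff_mul_comm]
    exact hcomm _ _
  refine mem_centralizer_iff.mpr fun o ho => ?_
  have h2 := congrArg (fun φ : MulAut O => ((φ ⟨o, ho⟩ : O) : H)) h1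
  simp only [MulAut.one_apply, MulAut.conjNormal_apply] at h2
  exact (mul_inv_eq_iff_eq_mul.mp h2).symm

/-- A two-generated or smaller elementary group cannot act faithfully on a group of prime order. -/
theorem exists_mem_centralizer_of_prime_order {R : Subgroup H} [R.Normal] {r : ℕ} [Fact r.Prime]
    (hR : Nat.card R = r) {E : Subgroup H} (hE : ¬ IsCyclic ↥E) :
    ∃ e ∈ E, e ≠ 1 ∧ e ∈ centralizer (R : Set H) := by
  have : IsCyclic R := isCyclic_of_prime_card hR
  let φ : E →* (ZMod (Nat.card R))ˣ :=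
    ((IsCyclic.mulAutMulEquiv R).toMonoidHom.comp (MulAut.conjNormal)).comp E.subtype
  have hni : ¬ Function.Injective φ := fun hi => hE (by
    have : IsCyclic (ZMod (Nat.card R))ˣ := by rw [hR]; infer_instance
    exact isCyclic_of_injective φ hi)
  rw [injective_iff_map_eq_one] at hni
  push Not at hni
  obtain ⟨e, he, he1⟩ := hni
  refine ⟨e, e.2, fun h1 => he1 (Subtype.ext h1), mem_centralizer_iff.mpr fun o ho => ?_⟩
  have h1 : (MulAut.conjNormal (e : H) : MulAut R) = 1 := by
    apply (IsCyclic.mulAutMulEquiv R).injective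
    rw [map_one]
    exact he
  have h2 := congrArg (fun ψ : MulAut R => ((ψ ⟨o, ho⟩ : R) : H)) h1
  simp only [MulAut.one_apply, MulAut.conjNormal_apply] at h2
  exact (mul_inv_eq_iff_eq_mul.mp h2).symm

/-- An element of prime-power order of the Fitting subgroup lies in the core. -/
theorem mem_pCore_of_mem_fitting {p : ℕ} [Fact p.Prime] {x : H}
    (hx : x ∈ Cfsg.fittingSubgroup H) {j : ℕ} (hj : orderOf x = p ^ j) : x ∈ Cfsg.pCore p H := by
  have := CfsgLib.Solvable.fittingSubgroup_normal H
  set F := Cfsg.fittingSubgroup H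
  have hnil : Group.IsNilpotent F := CfsgLib.Solvable.fittingSubgroup_isNilpotent H
  have hp : IsPGroup p (zpowers (⟨x, hx⟩ : F)) := IsPGroup.of_card (n := j)
    (by rw [Nat.card_zpowers, Subgroup.orderOf_mk, hj])
  obtain ⟨S, hS⟩ := hp.exists_le_sylow
  have := S.characteristic_of_normal
    ((Group.isNilpotent_of_finite_tfae.out 0 3 rfl rfl).mp hnil p inferInstance S)
  exact CfsgLib.Solvable.le_pCore
    (CfsgLib.Solvable.normal_map_subtype_of_characteristic F (S : Subgroup F))
    (S.isPGroup'.map _) ⟨⟨x, hx⟩, hS (mem_zpowers _), rfl⟩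

variable (hH : CA H) (hsol : Group.IsSolvable H)
  (hmin : ∀ R : Subgroup H, R.Normal → R ≠ ⊥ →
    (∀ K : Subgroup H, K.Normal → K ≤ R → K = ⊥ ∨ K = R) → (Nat.card R).Prime)

include hH hsol hmin

/-- A nontrivial core holds every element of order `r`. -/
theorem exists_unique_order_of_core {r : ℕ} [Fact r.Prime] (h : Cfsg.pCore r H ≠ ⊥) :
    ∃ R : Subgroup H, R.Normal ∧ Nat.card R = r ∧ R ≤ Cfsg.pCore r H ∧
      ∀ x : H, x ^ r = 1 → x ∈ R := by
  have := CfsgLib.Solvable.pCore_normal (p := r) H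
  obtain ⟨R, hRn, hR, hRle, hRmin⟩ := CfsgLib.Solvable.exists_minimal_normal_le (Cfsg.pCore r H) h
  have hp := hmin R hRn hR hRmin
  have := Fact.mk hp
  have hcard : Nat.card R = r :=
    CfsgLib.Solvable.isPGroup_prime_eq ((CfsgLib.Solvable.pCore_isPGroup r H).to_le hRle) hp dvd_rfl
  refine ⟨R, hRn, hcard, hRle, fun x hx => ?_⟩
  by_cases hx1 : x = 1
  · rw [hx1]; exact one_mem R
  obtain ⟨z, hz⟩ := exists_prime_orderOf_dvd_card' r (hcard ▸ dvd_rfl : r ∣ Nat.card R)
  exact hH.mem_of_orderOf_eq z.2 (by rw [Subgroup.orderOf_coe, hz, orderOf_eq_prime hx hx1])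

/-- An element of prime order `p` centralising the cores forces a nontrivial `p`-core. -/
theorem core_ne_bot_of_centralizes {p : ℕ} [Fact p.Prime] {e : H} (he : orderOf e = p)
    (hcent : ∀ r : ℕ, r.Prime → e ∈ centralizer (Cfsg.pCore r H : Set H)) :
    Cfsg.pCore p H ≠ ⊥ := by
  intro hbot
  have hC : e ∈ centralizer (Cfsg.fittingSubgroup H : Set H) := by
    rw [← zpowers_le, le_centralizer_iff, CfsgLib.Solvable.fittingSubgroup_eq_iSup_pCore]
    refine iSup_le fun q => ?_
    rw [le_centralizer_iff, zpowers_le]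
    exact hcent q (Nat.mem_primeFactors.1 q.2).1
  have h1 := mem_pCore_of_mem_fitting (p := p) (j := 1)
    (CfsgLib.Solvable.centralizer_fittingSubgroup_le hC) (by rw [he, pow_one])
  rw [hbot, mem_bot] at h1
  rw [h1, orderOf_one] at he
  exact (Fact.out : p.Prime).ne_one he.symm

omit hsol in
/-- Every core is cyclic, or quaternion of order eight. -/
theorem core_cyclic_or_quaternion {r : ℕ} [Fact r.Prime] (hsol : Group.IsSolvable H) :
    IsCyclic ↥(Cfsg.pCore r H) ∨
      (r = 2 ∧ Nonempty ((Cfsg.pCore r H) ≃* QuaternionGroup 2)) := by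
  by_cases h : Cfsg.pCore r H = ⊥
  · rw [h]; exact Or.inl inferInstance
  obtain ⟨R, _, hR, _, huniq⟩ := exists_unique_order_of_core hH hsol hmin h
  have hsame : ∀ x y : Cfsg.pCore r H, x ^ r = 1 → x ≠ 1 → y ^ r = 1 → y ∈ zpowers x := by
    intro x y hx hx1 hy
    have hle : R ≤ zpowers (x : H) :=
      (eq_of_le_of_card_ge (zpowers_le.mpr (huniq _ (by rw [← SubmonoidClass.coe_pow, hx]; rfl)))
        (by rw [Nat.card_zpowers, Subgroup.orderOf_coe, orderOf_eq_prime hx hx1, hR])).ge
    obtain ⟨i, hi⟩ := hle (huniq (y : H) (by rw [← SubmonoidClass.coe_pow, hy]; rfl))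
    exact ⟨i, Subtype.ext (by simpa using hi)⟩
  by_cases hr : r = 2
  · subst hr
    have hu2 : ∀ u v : Cfsg.pCore 2 H, u ^ 2 = 1 → u ≠ 1 → v ^ 2 = 1 → v ≠ 1 → u = v := by
      intro u v hu hu1 hv hv1
      obtain ⟨j, rfl⟩ := Subgroup.mem_zpowers_iff.mp (hsame u v hu hu1 hv)
      obtain ⟨i, rfl | rfl⟩ := Int.even_or_odd' j
      · exact absurd (by rw [zpow_mul, zpow_ofNat, hu, one_zpow]) hv1
      · rw [zpow_add, zpow_mul, zpow_ofNat, hu, one_zpow, one_mul, zpow_one]
    rcases CfsgLib.Solvable.isCyclic_or_quaternion_of_unique_involution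
      (CfsgLib.Solvable.pCore_isPGroup 2 H) hu2 with hc | ⟨k, ⟨e⟩⟩
    · exact Or.inl hc
    obtain ⟨P, hP⟩ := (CfsgLib.Solvable.pCore_isPGroup 2 H).exists_le_sylow
    have : NeZero (2 ^ k) := ⟨(Nat.two_pow_pos k).ne'⟩
    have hcard : Nat.card (Cfsg.pCore 2 H) = 4 * 2 ^ k := by
      rw [Nat.card_congr e.toEquiv, Nat.card_eq_fintype_card, QuaternionGroup.card]
    have hk : k ≤ 1 := by
      rcases hH.pGroup_dichotomy P.isPGroup' with h1 | h1
      · have h2 := card_le_two_of_uniqueInv hu2 le_rfl fun x hx => h1 x (hP hx)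
        have := Nat.two_pow_pos k
        omega
      · have huP : UniqueInv (P : Subgroup H) := by
          intro u v hu hu1 hv hv1
          obtain ⟨j, rfl⟩ := Subgroup.mem_zpowers_iff.mp (h1 u v hu hu1 hv)
          obtain ⟨i, rfl | rfl⟩ := Int.even_or_odd' j
          · exact absurd (by rw [zpow_mul, zpow_ofNat, hu, one_zpow]) hv1
          · rw [zpow_add, zpow_mul, zpow_ofNat, hu, one_zpow, one_mul, zpow_one]
        rcases card_le_eight _ H rfl hsol hH P huP with hc | hc
        · have : IsCyclic (Cfsg.pCore 2 H) :=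
            isCyclic_of_injective (inclusion hP) (inclusion_injective hP)
          have := isCyclic_of_surjective e e.surjective
          by_contra hk2
          push Not at hk2
          have hh : (QuaternionGroup.a 1 : QuaternionGroup (2 ^ k)) * QuaternionGroup.xa 0 =
              QuaternionGroup.xa 0 * QuaternionGroup.a 1 :=
            (IsCyclic.commGroup (α := QuaternionGroup (2 ^ k))).mul_comm _ _
          rw [QuaternionGroup.a_mul_xa, QuaternionGroup.xa_mul_a] at hh
          simp only [QuaternionGroup.xa.injEq, zero_sub, zero_add] at hh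
          have h2 : ((2 : ℕ) : ZMod (2 * 2 ^ k)) = 0 := by
            push_cast
            linear_combination -hh
          rw [ZMod.natCast_eq_zero_iff] at h2
          have := Nat.le_of_dvd (by norm_num) h2
          have := Nat.pow_le_pow_right (show 0 < 2 by norm_num) (show 2 ≤ k from hk2)
          omega
        · have := (card_le_of_le hP).trans hc
          rw [hcard] at this
          by_contra hk2
          have := Nat.pow_le_pow_right (show 0 < 2 by norm_num) (show 2 ≤ k by omega)
          omega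
    interval_cases k
    · refine Or.inl ?_
      have := QuaternionGroup.quaternionGroup_one_isCyclic
      exact isCyclic_of_surjective e.symm e.symm.surjective
    · exact Or.inr ⟨rfl, ⟨e⟩⟩
  · exact Or.inl (CfsgLib.PGroup.isCyclic_of_unique_order_prime hr
      (CfsgLib.Solvable.pCore_isPGroup r H) hsame)

/-- An elementary group of rank two has an element centralising a given core. -/
theorem exists_centralizing_core {p : ℕ} [Fact p.Prime] (hp0 : Cfsg.pCore p H = ⊥)
    {E : Subgroup H} (hE : ∀ x ∈ E, x ^ p = 1) (hEc : Nat.card E = p ^ 2)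
    {r : ℕ} (hr : r.Prime) :
    ∃ e ∈ E, e ≠ 1 ∧ e ∈ centralizer (Cfsg.pCore r H : Set H) := by
  have := Fact.mk hr
  have hEne : E ≠ ⊥ := fun e => by
    rw [e, card_bot] at hEc
    exact absurd hEc.symm (Nat.one_lt_pow two_ne_zero (Fact.out : p.Prime).one_lt).ne'
  have hEnc : ¬ IsCyclic ↥E := fun hc => by
    have h1 : Monoid.exponent E ∣ p := Monoid.exponent_dvd_of_forall_pow_eq_one fun v =>
      Subtype.ext (by simpa using hE v v.2)
    rw [IsCyclic.exponent_eq_card, hEc] at h1
    have := Nat.le_of_dvd (Fact.out : p.Prime).pos h1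
    nlinarith [(Fact.out : p.Prime).one_lt]
  by_cases hbot : Cfsg.pCore r H = ⊥
  · obtain ⟨e, he, he1⟩ := (bot_or_exists_ne_one E).resolve_left hEne
    refine ⟨e, he, he1, ?_⟩
    rw [hbot]
    exact mem_centralizer_iff.mpr fun x hx => by
      rw [SetLike.mem_coe, mem_bot] at hx
      rw [hx, one_mul, mul_one]
  have hrp : r ≠ p := fun e => hbot (e ▸ hp0)
  have hOn := CfsgLib.Solvable.pCore_normal (p := r) H
  rcases core_cyclic_or_quaternion hH hmin (r := r) hsol with hc | ⟨hr2, ⟨q⟩⟩
  · obtain ⟨R, hRn, hR, -, huniq⟩ := exists_unique_order_of_core hH hsol hmin hbot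
    obtain ⟨e, he, he1, heR⟩ := exists_mem_centralizer_of_prime_order hR hEnc
    refine ⟨e, he, he1, zpowers_le.mp ?_⟩
    refine CfsgLib.Solvable.le_centralizer_of_fix_prime_order
      (by rw [normalizer_eq_top]; exact le_top) ?_ fun v hv hvp a ha => ?_
    · rw [Nat.card_zpowers, orderOf_eq_prime (hE e he) he1]
      obtain ⟨j, hj⟩ := (CfsgLib.Solvable.pCore_isPGroup r H).exists_card_eq
      rw [hj]
      exact ((Nat.coprime_primes Fact.out hr).mpr (Ne.symm hrp)).pow_right j
    · have hvr : orderOf v = r := by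
        obtain ⟨j, hj⟩ := (CfsgLib.Solvable.pCore_isPGroup r H).exists_orderOf_eq_pow ⟨v, hv⟩
        rw [Subgroup.orderOf_mk] at hj
        exact (Nat.prime_dvd_prime_iff_eq hvp hr).mp
          (hvp.dvd_of_dvd_pow (dvd_of_eq hj))
      have hvR : v ∈ R := huniq v (by rw [← hvr, pow_orderOf_eq_one])
      exact (mem_centralizer_iff.mp ((zpowers_le.mpr heR) ha) v hvR).symm
  · subst hr2
    have hp2 : p ≠ 2 := Ne.symm hrp
    set O := Cfsg.pCore 2 H
    obtain ⟨x, hx, hxo⟩ : ∃ x ∈ O, orderOf x = 4 :=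
      ⟨_, (q.symm (QuaternionGroup.xa 0)).2, by
        rw [Subgroup.orderOf_coe, MulEquiv.orderOf_eq, QuaternionGroup.orderOf_xa]⟩
    have hOcard : Nat.card O = 8 := by
      rw [Nat.card_congr q.toEquiv, Nat.card_eq_fintype_card, QuaternionGroup.card]
    obtain ⟨e, he, he1, hex⟩ : ∃ e ∈ E, e ≠ 1 ∧ e * x = x * e := by
      by_contra hne
      push Not at hne
      have h1 : Nat.card E ≤ Nat.card O :=
        Nat.card_le_card_of_injective (fun a => (⟨(a : H) * x * (a : H)⁻¹, hOn.conj_mem x hx a⟩ : O))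
          fun a b hab => by
            by_contra hne'
            have h2 : (a : H) * x * (a : H)⁻¹ = (b : H) * x * (b : H)⁻¹ := congrArg Subtype.val hab
            refine hne ((b : H)⁻¹ * a) (mul_mem (inv_mem b.2) a.2) (fun e => hne' ?_) ?_
            · exact (Subtype.ext (inv_mul_eq_one.mp e)).symm
            · calc (b : H)⁻¹ * a * x = (b : H)⁻¹ * ((a : H) * x * (a : H)⁻¹) * a := by group
                _ = x * ((b : H)⁻¹ * a) := by rw [h2]; group
      rw [hEc, hOcard] at h1
      have h3 : 3 ≤ p := by have := (Fact.out : p.Prime).two_le; omega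
      nlinarith [Nat.pow_le_pow_left h3 2]
    refine ⟨e, he, he1, mem_centralizer_iff.mpr fun y hy => ?_⟩
    have hfix : ∀ i : ℤ, e * x ^ i = x ^ i * e := fun i =>
      ((show Commute e x from hex).zpow_right i).eq
    by_cases hyx : y ∈ zpowers x
    · obtain ⟨i, rfl⟩ := hyx
      exact (hfix i).symm
    set X := (zpowers x).subgroupOf O with hX
    have hXi : X.index = 2 := by
      have h1 := X.card_mul_index
      rw [Nat.card_congr (subgroupOfEquivOfLe (zpowers_le.mpr hx)).toEquiv, Nat.card_zpowers, hxo,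
        hOcard] at h1
      omega
    have hey : e * y * e⁻¹ ∈ O := hOn.conj_mem y hy e
    have hnot : (⟨e * y * e⁻¹, hey⟩ : O) ∉ X := by
      intro hm
      obtain ⟨i, hi⟩ := hm
      apply hyx
      refine ⟨i, ?_⟩
      have h2 : x ^ i = e * y * e⁻¹ := hi
      calc x ^ i = e⁻¹ * (x ^ i * e) := by rw [← hfix]; group
        _ = y := by rw [h2]; group
    obtain ⟨i, hi⟩ : ∃ i : ℤ, x ^ i = y⁻¹ * (e * y * e⁻¹) := by
      have := (mul_mem_iff_of_index_two hXi (a := (⟨y, hy⟩ : O)⁻¹) (b := ⟨_, hey⟩)).mpr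
        (iff_of_false (fun hm => hyx (by have := X.inv_mem hm; rw [inv_inv] at this; exact this))
          hnot)
      exact this
    have hk : ∀ n : ℕ, e ^ n * y * (e ^ n)⁻¹ = y * x ^ (i * n) := by
      intro n
      induction n with
      | zero => simp
      | succ n ih =>
        calc e ^ (n + 1) * y * (e ^ (n + 1))⁻¹
            = e * (e ^ n * y * (e ^ n)⁻¹) * e⁻¹ := by rw [pow_succ']; group
          _ = e * y * e⁻¹ * (e * x ^ (i * n) * e⁻¹) := by rw [ih]; group
          _ = y * (x ^ i * x ^ (i * n)) := by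
              rw [hfix, mul_inv_cancel_right, hi]; group
          _ = y * x ^ (i * (n + 1 : ℕ)) := by rw [← zpow_add]; congr 2; push_cast; ring
    have h0 := hk p
    rw [hE e he, one_mul, inv_one, mul_one] at h0
    have h1 : x ^ (i * p) = 1 := by
      have h0' := h0.symm
      rwa [mul_eq_left] at h0'
    have h4 : x ^ i = 1 := by
      rw [← orderOf_dvd_iff_zpow_eq_one] at h1 ⊢
      rw [hxo] at h1 ⊢
      refine Int.dvd_of_dvd_mul_left_of_gcd_one h1 ?_
      rw [Int.gcd_natCast_natCast]
      exact ((Nat.coprime_primes Nat.prime_two Fact.out).mpr (Ne.symm hp2)).pow_left 2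
    rw [hi, inv_mul_eq_one] at h4
    exact (eq_mul_inv_iff_mul_eq.mp h4)

/-- Subgroups of prime-power order are cyclic, except for a quaternion two-core. -/
theorem pSubgroup_cyclic_or_core {p : ℕ} [Fact p.Prime] {P : Subgroup H} (hP : IsPGroup p ↥P)
    (hnc : ¬ IsCyclic ↥P) : p = 2 ∧ P = Cfsg.pCore 2 H ∧ ¬ IsMulCommutative ↥P := by
  rcases hH.pGroup_dichotomy hP with hexp | hu
  · exfalso
    by_cases hp0 : Cfsg.pCore p H = ⊥
    swap
    · obtain ⟨R, -, hR, -, huniq⟩ := exists_unique_order_of_core hH hsol hmin hp0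
      have : IsCyclic R := isCyclic_of_prime_card hR
      exact hnc (isCyclic_of_injective (inclusion fun x hx => huniq x (hexp x hx))
        (inclusion_injective _))
    have : Nontrivial P := by
      rw [Subgroup.nontrivial_iff_ne_bot]
      rintro rfl
      exact hnc inferInstance
    have hct := hP.center_nontrivial
    obtain ⟨c, hc, hc1⟩ : ∃ c : P, c ∈ center P ∧ c ≠ 1 := by
      obtain ⟨⟨c, hc⟩, hc1⟩ := exists_ne (1 : center P)
      exact ⟨c, hc, fun e => hc1 (Subtype.ext e)⟩
    obtain ⟨y, hy⟩ : ∃ y : P, y ∉ zpowers c := by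
      by_contra hall
      push Not at hall
      exact hnc ⟨⟨c, hall⟩⟩
    have hy1 : y ≠ 1 := fun e => hy (e ▸ one_mem _)
    have hco : orderOf (c : H) = p :=
      orderOf_eq_prime (hexp c c.2) fun e => hc1 (Subtype.ext e)
    have hyo : orderOf (y : H) = p :=
      orderOf_eq_prime (hexp y y.2) fun e => hy1 (Subtype.ext e)
    have hcy : Commute (c : H) y := (congrArg Subtype.val (mem_center_iff.mp hc y)).symm
    set E := zpowers (c : H) ⊔ zpowers (y : H) with hEdef
    have hnorm : zpowers (y : H) ≤ normalizer (zpowers (c : H) : Set H) :=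
      le_trans (zpowers_le.mpr (mem_centralizer_zpowers_iff.mpr hcy.symm.eq))
        (centralizer_le_normalizer _)
    have hdis : Disjoint (zpowers (c : H)) (zpowers (y : H)) := by
      rw [disjoint_iff, eq_bot_iff]
      intro w hw
      by_contra hw1
      have hwo : orderOf w = p := orderOf_eq_prime
        (hexp w ((zpowers_le.mpr c.2) hw.1)) hw1
      have h1 : zpowers w = zpowers (c : H) := eq_of_le_of_card_ge (zpowers_le.mpr hw.1)
        (by rw [Nat.card_zpowers, Nat.card_zpowers, hco, hwo])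
      have h2 : zpowers w = zpowers (y : H) := eq_of_le_of_card_ge (zpowers_le.mpr hw.2)
        (by rw [Nat.card_zpowers, Nat.card_zpowers, hyo, hwo])
      obtain ⟨i, hi⟩ := (h1 ▸ h2 ▸ mem_zpowers (y : H) : (y : H) ∈ zpowers (c : H))
      exact hy ⟨i, Subtype.ext (by simpa using hi)⟩
    have hEP : E ≤ P := sup_le (zpowers_le.mpr c.2) (zpowers_le.mpr y.2)
    have hEexp : ∀ x ∈ E, x ^ p = 1 := fun x hx => hexp x (hEP hx)
    have hEc : Nat.card E = p ^ 2 := by
      rw [hEdef, CfsgLib.Solvable.card_sup_of_disjoint hnorm hdis, Nat.card_zpowers,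
        Nat.card_zpowers, hco, hyo, sq]
    refine core_ne_bot_of_centralizes hH hsol hmin hco (fun r hr => ?_) hp0
    obtain ⟨e, he, he1, heC⟩ := exists_centralizing_core hH hsol hmin hp0 hEexp hEc hr
    have := CfsgLib.Solvable.pCore_normal (p := r) H
    exact hH.mem_of_orderOf_eq heC (by rw [orderOf_eq_prime (hEexp e he) he1, hco])
  by_cases hp2 : p = 2
  swap
  · exact absurd (CfsgLib.PGroup.isCyclic_of_unique_order_prime hp2 hP hu) hnc
  subst hp2
  refine ⟨rfl, ?_⟩
  have huI : UniqueInv P := by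
    intro u v hu1 hu2 hv hv1
    obtain ⟨j, rfl⟩ := Subgroup.mem_zpowers_iff.mp (hu u v hu1 hu2 hv)
    obtain ⟨i, rfl | rfl⟩ := Int.even_or_odd' j
    · exact absurd (by rw [zpow_mul, zpow_ofNat, hu1, one_zpow]) hv1
    · rw [zpow_add, zpow_mul, zpow_ofNat, hu1, one_zpow, one_mul, zpow_one]
  rcases CfsgLib.Solvable.isCyclic_or_quaternion_of_unique_involution hP huI with hc | ⟨k, ⟨q⟩⟩
  · exact absurd hc hnc
  have : NeZero (2 ^ k) := ⟨(Nat.two_pow_pos k).ne'⟩
  have hk0 : 1 ≤ k := by
    by_contra hk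
    obtain rfl : k = 0 := by omega
    have := QuaternionGroup.quaternionGroup_one_isCyclic
    exact hnc (isCyclic_of_surjective q.symm q.symm.surjective)
  set a := ((q.symm (QuaternionGroup.xa 0) : P) : H) with ha
  set b := ((q.symm (QuaternionGroup.xa 1) : P) : H) with hb
  have hao : orderOf a = 4 := by
    rw [ha, Subgroup.orderOf_coe, MulEquiv.orderOf_eq, QuaternionGroup.orderOf_xa]
  have hbo : orderOf b = 4 := by
    rw [hb, Subgroup.orderOf_coe, MulEquiv.orderOf_eq, QuaternionGroup.orderOf_xa]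
  have hne : (2 : ℕ) ^ k ≠ 1 := (Nat.one_lt_two_pow (by omega)).ne'
  have hab : b ∉ zpowers a := by
    intro hm
    obtain ⟨i, hi⟩ := hm
    have h1 : (QuaternionGroup.xa 0 : QuaternionGroup (2 ^ k)) ^ i = QuaternionGroup.xa 1 := by
      have h2 : ((q.symm (QuaternionGroup.xa 0)) ^ i : P) = q.symm (QuaternionGroup.xa 1) :=
        Subtype.ext (by simpa using hi)
      rw [← map_zpow] at h2
      exact q.symm.injective h2
    have hcomm : (QuaternionGroup.xa 0 : QuaternionGroup (2 ^ k)) * QuaternionGroup.xa 1 =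
        QuaternionGroup.xa 1 * QuaternionGroup.xa 0 := by
      rw [← h1]; exact (Commute.self_zpow _ i).eq
    rw [QuaternionGroup.xa_mul_xa, QuaternionGroup.xa_mul_xa] at hcomm
    simp only [QuaternionGroup.a.injEq, sub_zero, add_zero] at hcomm
    have h2 : ((2 : ℕ) : ZMod (2 * 2 ^ k)) = 0 := by
      push_cast
      linear_combination hcomm
    rw [ZMod.natCast_eq_zero_iff] at h2
    have := Nat.le_of_dvd (by norm_num) h2
    have := Nat.two_pow_pos k
    omega
  have hna : ¬ IsMulCommutative ↥P := by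
    intro hc
    apply hnc
    have h1 : ∀ x y : P, x * y = y * x := hc.is_comm.comm
    exfalso
    have hh := congrArg q (h1 (q.symm (QuaternionGroup.xa 0)) (q.symm (QuaternionGroup.xa 1)))
    rw [map_mul, map_mul, MulEquiv.apply_symm_apply, MulEquiv.apply_symm_apply,
      QuaternionGroup.xa_mul_xa, QuaternionGroup.xa_mul_xa] at hh
    simp only [QuaternionGroup.a.injEq, sub_zero, add_zero] at hh
    have h2 : ((2 : ℕ) : ZMod (2 * 2 ^ k)) = 0 := by
      push_cast
      linear_combination hh
    rw [ZMod.natCast_eq_zero_iff] at h2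
    have := Nat.le_of_dvd (by norm_num) h2
    have := Nat.two_pow_pos k
    omega
  refine ⟨?_, hna⟩
  have hnorm2 := CfsgLib.Solvable.pCore_normal (p := 2) H
  -- every element of order four lies in the core
  have hfour : ∀ x : H, orderOf x = 4 → x ∈ Cfsg.pCore 2 H := by
    intro x hx
    rcases core_cyclic_or_quaternion hH hmin (r := 2) hsol with hc | ⟨-, ⟨q'⟩⟩
    · exfalso
      obtain ⟨g, hg⟩ := hH (zpowers a) (zpowers b) (zpowers_comm a) (zpowers_comm b)
        (by rw [Nat.card_zpowers, Nat.card_zpowers, hao, hbo])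
      obtain ⟨a', ha', hga⟩ := hg.le (mem_zpowers b)
      have hcb : ⁅g, a'⁆ = b * a'⁻¹ := by
        rw [← hga, commutatorElement_def]; rfl
      have hcF : ⁅g, a'⁆ ∈ Cfsg.fittingSubgroup H := by
        refine CfsgLib.Solvable.centralizer_fittingSubgroup_le ?_
        rw [← zpowers_le, le_centralizer_iff, CfsgLib.Solvable.fittingSubgroup_eq_iSup_pCore]
        refine iSup_le fun r => ?_
        rw [le_centralizer_iff, zpowers_le]
        have := Fact.mk (Nat.mem_primeFactors.1 r.2).1
        have := CfsgLib.Solvable.pCore_normal (p := (r : ℕ)) H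
        rcases core_cyclic_or_quaternion hH hmin (r := (r : ℕ)) hsol with hc' | ⟨hr, -⟩
        · exact commutator_mem_centralizer_of_cyclic g a'
        · have : IsCyclic ↥(Cfsg.pCore (r : ℕ) H) := by rw [hr]; exact hc
          exact commutator_mem_centralizer_of_cyclic g a'
      have haP : a ∈ P := (q.symm (QuaternionGroup.xa 0)).2
      have hcP : b * a'⁻¹ ∈ P :=
        mul_mem (q.symm (QuaternionGroup.xa 1)).2 (inv_mem ((zpowers_le.mpr haP) ha'))
      obtain ⟨j, hj⟩ := hP.exists_orderOf_eq_pow ⟨_, hcP⟩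
      rw [Subgroup.orderOf_mk] at hj
      have hcO : b * a'⁻¹ ∈ Cfsg.pCore 2 H := mem_pCore_of_mem_fitting (hcb ▸ hcF) hj
      -- the core contains no element of order four
      have hc2 : (b * a'⁻¹) ^ 2 = 1 := by
        by_contra h2
        have hj2 : 2 ≤ j := by
          by_contra hlt
          apply h2
          rw [← orderOf_dvd_iff_pow_eq_one, hj]
          exact (pow_dvd_pow 2 (show j ≤ 1 by omega)).trans (by rw [pow_one])
        have hw : orderOf ((b * a'⁻¹) ^ 2 ^ (j - 2)) = 2 ^ 2 := by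
          rw [orderOf_pow, hj, Nat.gcd_eq_right (pow_dvd_pow 2 (Nat.sub_le j 2)),
            Nat.pow_div (Nat.sub_le j 2) two_pos, Nat.sub_sub_self hj2]
        have hwO : (b * a'⁻¹) ^ 2 ^ (j - 2) ∈ Cfsg.pCore 2 H := pow_mem hcO _
        have haO : a ∈ Cfsg.pCore 2 H := hH.mem_of_orderOf_eq hwO (by rw [hw, hao]; rfl)
        have hbO : b ∈ Cfsg.pCore 2 H := hH.mem_of_orderOf_eq hwO (by rw [hw, hbo]; rfl)
        refine hab (le_of_card_dvd_of_cyclic (G := Cfsg.pCore 2 H)
          (A := zpowers (⟨b, hbO⟩ : Cfsg.pCore 2 H)) (B := zpowers ⟨a, haO⟩)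
          (by rw [Nat.card_zpowers, Nat.card_zpowers, Subgroup.orderOf_mk, Subgroup.orderOf_mk,
            hao, hbo]) (mem_zpowers _) |> fun hm => ?_)
        obtain ⟨i, hi⟩ := hm
        exact ⟨i, by simpa using congrArg Subtype.val hi⟩
      have ha2 : (a ^ 2 : H) ≠ 1 := fun e => by
        have := orderOf_le_of_pow_eq_one (by norm_num) e
        omega
      have hmem : b * a'⁻¹ ∈ zpowers a := by
        by_cases h1 : b * a'⁻¹ = 1
        · rw [h1]; exact one_mem _
        have := huI ⟨_, hcP⟩ ⟨a ^ 2, pow_mem haP 2⟩ (Subtype.ext hc2)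
          (fun e => h1 (congrArg Subtype.val e))
          (Subtype.ext (show (a ^ 2) ^ 2 = 1 by
            rw [← pow_mul, show 2 * 2 = orderOf a from hao.symm]; exact pow_orderOf_eq_one a))
          (fun e => ha2 (congrArg Subtype.val e))
        rw [show b * a'⁻¹ = a ^ 2 from congrArg Subtype.val this]
        exact npow_mem_zpowers a 2
      have := mul_mem hmem ha'
      rw [inv_mul_cancel_right] at this
      exact hab this
    · have hy : orderOf ((q'.symm (QuaternionGroup.xa 0) : Cfsg.pCore 2 H) : H) = 4 := by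
        rw [Subgroup.orderOf_coe, MulEquiv.orderOf_eq, QuaternionGroup.orderOf_xa]
      exact hH.mem_of_orderOf_eq (q'.symm (QuaternionGroup.xa 0)).2 (by rw [hy, hx])
  have hxa : ∀ i, ((q.symm (QuaternionGroup.xa i) : P) : H) ∈ Cfsg.pCore 2 H := fun i =>
    hfour _ (by rw [Subgroup.orderOf_coe, MulEquiv.orderOf_eq, QuaternionGroup.orderOf_xa])
  have hle : P ≤ Cfsg.pCore 2 H := by
    intro x hx
    obtain ⟨y, rfl⟩ : ∃ y, ((q.symm y : P) : H) = x := ⟨q ⟨x, hx⟩, by rw [q.symm_apply_apply]⟩
    rcases y with i | i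
    · rw [show (QuaternionGroup.a i : QuaternionGroup (2 ^ k)) =
        QuaternionGroup.xa 0 * QuaternionGroup.xa (i - ((2 ^ k : ℕ) : ZMod (2 * 2 ^ k))) by
          rw [QuaternionGroup.xa_mul_xa]; congr 1; ring, map_mul, Subgroup.coe_mul]
      exact mul_mem (hxa _) (hxa _)
    · exact hxa i
  refine eq_of_le_of_card_ge hle ?_
  rcases core_cyclic_or_quaternion hH hmin (r := 2) hsol with hc | ⟨-, ⟨q'⟩⟩
  · exact absurd (isCyclic_of_injective (inclusion hle) (inclusion_injective hle)) hnc
  · rw [Nat.card_congr q'.toEquiv, Nat.card_congr q.toEquiv, Nat.card_eq_fintype_card,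
      Nat.card_eq_fintype_card, QuaternionGroup.card, QuaternionGroup.card]
    have := Nat.pow_le_pow_right (show 0 < 2 by norm_num) hk0
    omega

end CfsgLib.ConjAbelian
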