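import Cfsg.Agent.Lib.ConjAbelian.Quotient
import Cfsg.Agent.Lib.ConjAbelian.CoreStructure

/-!
# In a solvable group with conjugate abelian subgroups, equal order implies conjugate
-/

set_option autoImplicit false

open Subgroup
open scoped commutatorElement Pointwise

namespace CfsgLib.ConjAbelian

universe u

/-- Any two subgroups of the same order are conjugate. -/
def AllConj (G : Type u) [Group G] : Prop :=
  ∀ A B : Subgroup G, Nat.card ↥A = Nat.card ↥B → ∃ g : G, B = A.map (MulAut.conj g).toMonoidHom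

variable {G : Type u} [Group G] [Finite G]

theorem conj_of_quotient (N : Subgroup G) [N.Normal] (hNs : Group.IsSolvable ↥N)
    (hQ : AllConj (G ⧸ N)) {A B : Subgroup G} (he : Nat.card A = Nat.card B)
    (hcase : (N ≤ A ∧ N ≤ B) ∨ (Nat.card N).Coprime (Nat.card A)) :
    ∃ g : G, B = A.map (MulAut.conj g).toMonoidHom := by
  have hnorm : ∀ C : Subgroup G, C ≤ normalizer (N : Set G) := fun C => by
    rw [normalizer_eq_top]; exact le_top
  set π := QuotientGroup.mk' N with hπ
  have hsupcard : ∀ C : Subgroup G,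
      Nat.card (C ⊔ N : Subgroup G) = Nat.card N * Nat.card (C.map π) := fun C => by
    rw [← CfsgLib.Solvable.card_comap_mk' N (C.map π), comap_map_eq, QuotientGroup.ker_mk']
  have hcardim : Nat.card (A.map π) = Nat.card (B.map π) := by
    rcases hcase with ⟨hA, hB⟩ | hc
    · have hA' := hsupcard A
      have hB' := hsupcard B
      rw [sup_eq_left.mpr hA, he] at hA'
      rw [sup_eq_left.mpr hB] at hB'
      exact Nat.eq_of_mul_eq_mul_left Nat.card_pos (hA'.symm.trans hB')
    · have hA' := hsupcard A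
      have hB' := hsupcard B
      rw [sup_comm, CfsgLib.Solvable.card_sup_of_disjoint (hnorm A)
        (disjoint_of_coprime_natCard hc)] at hA'
      rw [sup_comm, CfsgLib.Solvable.card_sup_of_disjoint (hnorm B)
        (disjoint_of_coprime_natCard (he ▸ hc)), ← he] at hB'
      exact Nat.eq_of_mul_eq_mul_left Nat.card_pos (hA'.symm.trans hB')
  obtain ⟨g', hg'⟩ := hQ _ _ hcardim
  obtain ⟨g, rfl⟩ := QuotientGroup.mk'_surjective N g'
  set A' := A.map (MulAut.conj g).toMonoidHom with hA'
  have himg : A'.map π = B.map π := by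
    rw [hg', hA', map_map, map_map]
    congr 1
  have hsup : A' ⊔ N = B ⊔ N := by
    have := congrArg (comap π) himg
    rwa [comap_map_eq, comap_map_eq, QuotientGroup.ker_mk'] at this
  rcases hcase with ⟨hA, hB⟩ | hc
  · refine ⟨g, ?_⟩
    have hNA' : N ≤ A' := fun x hx => ⟨g⁻¹ * x * g,
      hA (by simpa using (inferInstance : N.Normal).conj_mem x hx g⁻¹), by simp [mul_assoc]⟩
    rwa [sup_eq_left.mpr hB, sup_eq_left.mpr hNA', eq_comm] at hsup
  · obtain ⟨n, _, hn'⟩ := CfsgLib.Solvable.exists_conj_eq_of_coprime (N := N) (B := B) (B' := A')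
      (hnorm B) (by rw [sup_comm, ← hsup]; exact le_sup_left)
      (by rw [hA', card_map_of_injective (MulEquiv.injective _), he]) (he ▸ hc) (Or.inl hNs)
    refine ⟨n⁻¹ * g, ?_⟩
    rw [show A.map (MulAut.conj (n⁻¹ * g)).toMonoidHom = A'.map (MulAut.conj n⁻¹).toMonoidHom by
      rw [hA', map_map]; congr 1; ext x; simp [mul_assoc], ← hn',
      CfsgLib.Solvable.conj_smul_eq_map, map_map]
    ext x
    simp [mul_assoc]

/-- Solvable groups with cyclic Sylow subgroups. -/
theorem allConj_of_cyclic_sylow : ∀ (n : ℕ) (G : Type u) [Group G] [Finite G], Nat.card G = n →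
    Group.IsSolvable G → (∀ (p : ℕ) (S : Subgroup G), p.Prime → IsPGroup p ↥S → IsCyclic ↥S) →
    AllConj G := by
  intro n
  induction n using Nat.strong_induction_on with
  | _ n ih =>
  intro G _ _ hn hsol hcyc A B he
  rcases subsingleton_or_nontrivial G with hs | hnt
  · exact ⟨1, Subsingleton.elim _ _⟩
  obtain ⟨N, hNn, hN, -, hmin⟩ :=
    CfsgLib.Solvable.exists_minimal_normal_le (⊤ : Subgroup G) top_ne_bot
  obtain ⟨hNc, p, hp, hNexp⟩ := CfsgLib.Solvable.minimal_normal_elementary_abelian N hN hmin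
  have := Fact.mk hp
  have hNp : IsPGroup p ↥N := fun x => ⟨1, Subtype.ext (by simpa using hNexp x x.2)⟩
  have := hcyc p N hp hNp
  have hNcard : Nat.card N = p := by
    have h1 : Monoid.exponent N ∣ p := Monoid.exponent_dvd_of_forall_pow_eq_one fun v =>
      Subtype.ext (by simpa using hNexp v v.2)
    rw [IsCyclic.exponent_eq_card] at h1
    exact ((Nat.dvd_prime hp).mp h1).resolve_left fun e => hN (card_eq_one.mp e)
  have hlt : Nat.card (G ⧸ N) < n := by
    rw [← hn, ← Subgroup.index_eq_card, ← N.card_mul_index]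
    exact lt_mul_of_one_lt_left (Nat.pos_of_ne_zero FiniteIndex.index_ne_zero)
      (N.one_lt_card_iff_ne_bot.mpr hN)
  have hQ : AllConj (G ⧸ N) := by
    refine ih _ hlt (G ⧸ N) rfl
      (Group.isSolvable_of_surjective (QuotientGroup.mk'_surjective N)) fun l S hl hS => ?_
    have := Fact.mk hl
    obtain ⟨Q, hSQ⟩ := hS.exists_le_sylow
    obtain ⟨P⟩ := (inferInstance : Nonempty (Sylow l G))
    let P' := P.mapSurjective (QuotientGroup.mk'_surjective N)
    have := hcyc l P hl P.isPGroup'
    have hP' : IsCyclic ↥((P : Subgroup G).map (QuotientGroup.mk' N)) :=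
      isCyclic_of_surjective _ ((QuotientGroup.mk' N).subgroupMap_surjective (P : Subgroup G))
    have hP'' : IsCyclic ↥(P' : Subgroup (G ⧸ N)) := hP'
    have : IsCyclic ↥(Q : Subgroup (G ⧸ N)) :=
      isCyclic_of_surjective (P'.equiv Q) (P'.equiv Q).surjective
    exact isCyclic_of_injective (inclusion hSQ) (inclusion_injective hSQ)
  have hsolN : Group.IsSolvable ↥N := inferInstance
  refine conj_of_quotient N hsolN hQ he ?_
  by_cases hd : p ∣ Nat.card A
  · left
    have hle : ∀ C : Subgroup G, p ∣ Nat.card C → N ≤ C := by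
      intro C hC
      obtain ⟨c, hc⟩ := exists_prime_orderOf_dvd_card' p hC
      have hcp : IsPGroup p (zpowers (c : G)) := IsPGroup.of_card (n := 1)
        (by rw [Nat.card_zpowers, Subgroup.orderOf_coe, hc, pow_one])
      obtain ⟨P, hP⟩ := hcp.exists_le_sylow
      have := hcyc p P hp P.isPGroup'
      have hNP : N ≤ P := hNp.le_sylow_of_normal P
      have h1 : N.subgroupOf (P : Subgroup G) ≤ (zpowers (c : G)).subgroupOf (P : Subgroup G) :=
        le_of_card_dvd_of_cyclic (by
          rw [Nat.card_congr (subgroupOfEquivOfLe hNP).toEquiv,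
            Nat.card_congr (subgroupOfEquivOfLe hP).toEquiv, hNcard, Nat.card_zpowers,
            Subgroup.orderOf_coe, hc])
      intro x hx
      exact (zpowers_le.mpr c.2) (h1 (show (⟨x, hNP hx⟩ : (P : Subgroup G)) ∈ N.subgroupOf _ from hx))
    exact ⟨hle A hd, hle B (he ▸ hd)⟩
  · exact Or.inr (hNcard ▸ (Fact.out : p.Prime).coprime_iff_not_dvd.mpr hd)

/-- A Hall normal subgroup meets every subgroup in the largest possible order. -/
theorem card_inf_hall {F : Subgroup G} [F.Normal] (hF : (Nat.card F).Coprime F.index)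
    (A : Subgroup G) : Nat.card (A ⊓ F : Subgroup G) = (Nat.card A).gcd (Nat.card F) := by
  have h1 : Nat.card (A ⊓ F : Subgroup G) * F.relIndex A = Nat.card A := by
    rw [← CfsgLib.Solvable.card_inf_mul_relIndex F A, inf_comm]
  have hc : (F.relIndex A).Coprime (Nat.card F) :=
    hF.symm.coprime_dvd_left (relIndex_dvd_index_of_normal F A)
  rw [← h1, Nat.Coprime.gcd_mul_right_cancel _ hc,
    Nat.gcd_eq_left (card_dvd_of_le inf_le_right)]

/-- Inside the normaliser of `D = A ⊓ F`, a subgroup `A` is conjugate to `D` times a subgroup of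
the complement `H`. -/
theorem exists_conj_split {F H A D : Subgroup G} [F.Normal] [IsMulCommutative ↥F]
    (hF : (Nat.card F).Coprime F.index) (hFH : IsComplement' F H) (hD : A ⊓ F = D) :
    ∃ f ∈ F, ∃ A' : Subgroup G, A' ≤ H ⊓ normalizer (D : Set G) ∧
      A.map (MulAut.conj f).toMonoidHom = D ⊔ A' ∧ Nat.card A' = F.relIndex A := by
  have hcop : (Nat.card (F.subgroupOf A)).Coprime (F.subgroupOf A).index := by
    have h1 : Nat.card (F.subgroupOf A) = Nat.card (A ⊓ F : Subgroup G) := by
      rw [inf_comm, ← subgroupOf_map_subtype, card_map_of_injective A.subtype_injective]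
    rw [h1]
    exact (hF.coprime_dvd_left (card_dvd_of_le inf_le_right)).coprime_dvd_right
      (relIndex_dvd_index_of_normal F A)
  obtain ⟨C, hC⟩ := exists_right_complement'_of_coprime hcop
  set C' := C.map A.subtype
  have hC'card : Nat.card C' = F.relIndex A := by
    rw [card_map_of_injective A.subtype_injective, ← hC.symm.index_eq_card]
    rfl
  have hcopF : (Nat.card F).Coprime (Nat.card C') := by
    rw [hC'card]
    exact hF.coprime_dvd_right (relIndex_dvd_index_of_normal F A)
  have hcopH : (Nat.card F).Coprime (Nat.card H) := by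
    rwa [← hFH.symm.index_eq_card]
  obtain ⟨f, hf, hfC⟩ := CfsgLib.Solvable.exists_conj_le_of_coprime (N := F) (B := H) (B' := C')
    (by rw [normalizer_eq_top]; exact le_top) (by rw [hFH.sup_eq_top]; exact le_top)
    hcopH hcopF (Or.inl (Group.isSolvable_of_comm fun a b =>
      (inferInstance : IsMulCommutative ↥F).is_comm.comm a b))
  have hfD : ∀ x ∈ D, MulAut.conj f x = x := fun x hx => by
    rw [MulAut.conj_apply, show f * x = x * f from congrArg Subtype.val
      ((inferInstance : IsMulCommutative ↥F).is_comm.comm ⟨f, hf⟩ ⟨x, (hD ▸ hx : x ∈ A ⊓ F).2⟩),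
      mul_inv_cancel_right]
  have hDmap : D.map (MulAut.conj f).toMonoidHom = D := by
    ext x
    constructor
    · rintro ⟨y, hy, rfl⟩
      rw [MulEquiv.coe_toMonoidHom, hfD y hy]; exact hy
    · intro hx; exact ⟨x, hx, hfD x hx⟩
  have hAeq : A = D ⊔ C' := by
    have h2 := congrArg (map A.subtype) hC.sup_eq_top
    rw [Subgroup.map_sup, subgroupOf_map_subtype, inf_comm, hD, ← MonoidHom.range_eq_map,
      range_subtype] at h2
    exact h2.symm
  refine ⟨f, hf, MulAut.conj f • C', le_inf hfC ?_, ?_, by rw [CfsgLib.Solvable.card_conj_smul,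
    hC'card]⟩
  · rintro _ ⟨c, hc, rfl⟩
    have hcA : c ∈ A := (map_subtype_le C) hc
    have hcD : c ∈ normalizer (D : Set G) := by
      refine mem_normalizer_iff.mpr fun x => ?_
      rw [← hD]
      constructor
      · rintro ⟨h1, h2⟩
        exact ⟨A.mul_mem (A.mul_mem hcA h1) (A.inv_mem hcA), (inferInstance : F.Normal).conj_mem x h2 c⟩
      · rintro ⟨h1, h2⟩
        refine ⟨?_, ?_⟩
        · have := A.mul_mem (A.mul_mem (A.inv_mem hcA) h1) hcA
          simpa [mul_assoc] using this
        · have := (inferInstance : F.Normal).conj_mem _ h2 c⁻¹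
          simpa [mul_assoc] using this
    have hfn : f ∈ normalizer (D : Set G) := by
      refine mem_normalizer_iff.mpr fun x => ?_
      constructor
      · intro hx
        have := hfD x hx
        rw [MulAut.conj_apply] at this
        rwa [this]
      · intro hx
        have := hfD _ hx
        rw [MulAut.conj_apply] at this
        have h3 : f * (f * x * f⁻¹) * f⁻¹ = f * x * f⁻¹ := this
        have h4 : f * x * f⁻¹ = x := mul_left_cancel (mul_right_cancel h3)
        rwa [h4] at hx
    show f * c * f⁻¹ ∈ normalizer (D : Set G)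
    exact mul_mem (mul_mem hfn hcD) (inv_mem hfn)
  · conv_lhs => rw [hAeq]
    rw [Subgroup.map_sup, hDmap, CfsgLib.Solvable.conj_smul_eq_map]

/-- In a solvable group with conjugate abelian subgroups all subgroups of equal order are
conjugate. -/
theorem CA.allConj : ∀ (n : ℕ) (G : Type u) [Group G] [Finite G], Nat.card G = n →
    Group.IsSolvable G → CA G → AllConj G := by
  intro n
  induction n using Nat.strong_induction_on with
  | _ n ih =>
  intro G _ _ hn hsol h A B he
  have hquot : ∀ N : Subgroup G, ∀ [N.Normal], N ≠ ⊥ → AllConj (G ⧸ N) := by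
    intro N _ hN
    have hlt : Nat.card (G ⧸ N) < n := by
      rw [← hn, ← Subgroup.index_eq_card, ← N.card_mul_index]
      exact lt_mul_of_one_lt_left (Nat.pos_of_ne_zero FiniteIndex.index_ne_zero)
        (N.one_lt_card_iff_ne_bot.mpr hN)
    exact ih _ hlt (G ⧸ N) rfl (Group.isSolvable_of_surjective (QuotientGroup.mk'_surjective N))
      (CA.quotient_solvable _ G rfl hsol h N)
  by_contra hgoal
  have hMin : ∀ N : Subgroup G, N.Normal → N ≠ ⊥ →
      (∀ K : Subgroup G, K.Normal → K ≤ N → K = ⊥ ∨ K = N) →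
      ∃ q : ℕ, q.Prime ∧ Cfsg.IsElementaryAbelian q N ∧ IsPGroup q ↥N ∧
        (∀ P : Subgroup G, IsPGroup q ↥P → P ≤ N) ∧ q ∣ Nat.card A ∧ ¬ N ≤ A ∧ ¬ N ≤ B := by
    intro N hNn hN hmin
    obtain ⟨hNc, q, hq, hNexp⟩ := CfsgLib.Solvable.minimal_normal_elementary_abelian N hN hmin
    have := Fact.mk hq
    have hNp : IsPGroup q ↥N := fun x => ⟨1, Subtype.ext (by simpa using hNexp x x.2)⟩
    have hsolN : Group.IsSolvable ↥N := inferInstance
    obtain ⟨j, hj⟩ := hNp.exists_card_eq
    have hd : q ∣ Nat.card A := by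
      by_contra hd
      exact hgoal (conj_of_quotient N hsolN (hquot N hN) he
        (Or.inr (hj ▸ (hq.coprime_iff_not_dvd.mpr hd).pow_left j)))
    have hj2 : 2 ≤ j := by
      by_contra hlt
      have hj1 : j = 1 := by
        have h5 : 1 < q ^ j := hj ▸ N.one_lt_card_iff_ne_bot.mpr hN
        rcases j with _ | _ | j
        · simp at h5
        · rfl
        · omega
      have hle : ∀ C : Subgroup G, q ∣ Nat.card C → N ≤ C := by
        intro C hC
        obtain ⟨c, hc⟩ := exists_prime_orderOf_dvd_card' q hC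
        obtain ⟨m, hm⟩ := exists_prime_orderOf_dvd_card' (G := N) q (by rw [hj, hj1, pow_one])
        have hcN : (c : G) ∈ N :=
          h.mem_of_orderOf_eq m.2 (by rw [Subgroup.orderOf_coe, Subgroup.orderOf_coe, hm, hc])
        have : zpowers (c : G) = N := eq_of_le_of_card_ge (zpowers_le.mpr hcN)
          (by rw [Nat.card_zpowers, Subgroup.orderOf_coe, hc, hj, hj1, pow_one])
        exact this ▸ zpowers_le.mpr c.2
      exact hgoal (conj_of_quotient N hsolN (hquot N hN) he
        (Or.inl ⟨hle A hd, hle B (he ▸ hd)⟩))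
    have hsyl : ∀ P : Subgroup G, IsPGroup q ↥P → P ≤ N := fun P hP =>
      h.le_of_elementary hNp ⟨hNc, hNexp⟩ (hj ▸ Nat.pow_le_pow_right hq.pos hj2) hP
    have hboth : ∀ C C' : Subgroup G, Nat.card C = Nat.card C' → N ≤ C → N ≤ C' := by
      intro C C' hCC hle
      obtain ⟨S⟩ := (inferInstance : Nonempty (Sylow q C'))
      have h1 : (S : Subgroup C').map C'.subtype = N := by
        refine eq_of_le_of_card_ge (hsyl _ (S.isPGroup'.map _)) ?_
        rw [card_map_of_injective C'.subtype_injective]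
        exact Nat.le_of_dvd Nat.card_pos
          (hj ▸ S.pow_dvd_card_of_pow_dvd_card (hj ▸ hCC ▸ card_dvd_of_le hle))
      exact h1 ▸ map_subtype_le _
    exact ⟨q, hq, ⟨hNc, hNexp⟩, hNp, hsyl, hd,
      fun hA => hgoal (conj_of_quotient N hsolN (hquot N hN) he (Or.inl ⟨hA, hboth A B he hA⟩)),
      fun hB => hgoal (conj_of_quotient N hsolN (hquot N hN) he
        (Or.inl ⟨hboth B A he.symm hB, hB⟩))⟩
  -- the product of the minimal normal subgroups
  obtain ⟨F, -, hFmax⟩ := exists_maximal_ge_of_wellFoundedGT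
    (fun F : Subgroup G => F.Normal ∧ IsMulCommutative ↥F ∧ (Nat.card F).Coprime F.index ∧
      ∀ q : ℕ, q.Prime → q ∣ Nat.card F → ∃ N : Subgroup G, N.Normal ∧ N ≠ ⊥ ∧
        (∀ K : Subgroup G, K.Normal → K ≤ N → K = ⊥ ∨ K = N) ∧ N ≤ F ∧ IsPGroup q ↥N)
    ⊥ ⟨inferInstance, inferInstance, by simp, fun q hq hd => by
      rw [card_bot, Nat.dvd_one] at hd; exact absurd hd hq.ne_one⟩
  obtain ⟨hFn, hFc, hFhall, hFq⟩ := hFmax.prop
  have hminF : ∀ N : Subgroup G, N.Normal → N ≠ ⊥ →
      (∀ K : Subgroup G, K.Normal → K ≤ N → K = ⊥ ∨ K = N) → N ≤ F := by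
    intro N hNn hN hmin
    by_contra hle
    have hdis : N ⊓ F = ⊥ := (hmin _ (normal_inf_normal N F) inf_le_left).resolve_right
      fun e => hle (e ▸ inf_le_right)
    obtain ⟨q, hq, he', hNp, hsyl, -, -, -⟩ := hMin N hNn hN hmin
    have := Fact.mk hq
    have hNidx : ¬ q ∣ N.index := fun hd => by
      obtain ⟨P⟩ := (inferInstance : Nonempty (Sylow q G))
      exact P.not_dvd_index (hd.trans (index_dvd_of_le (hsyl _ P.isPGroup')))
    have hnew : (N ⊔ F).Normal ∧ IsMulCommutative ↥(N ⊔ F) ∧
        (Nat.card (N ⊔ F : Subgroup G)).Coprime (N ⊔ F).index ∧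
        ∀ q : ℕ, q.Prime → q ∣ Nat.card (N ⊔ F : Subgroup G) → ∃ N' : Subgroup G, N'.Normal ∧
          N' ≠ ⊥ ∧ (∀ K : Subgroup G, K.Normal → K ≤ N' → K = ⊥ ∨ K = N') ∧ N' ≤ N ⊔ F ∧
          IsPGroup q ↥N' := by
      have hcard : Nat.card (N ⊔ F : Subgroup G) = Nat.card N * Nat.card F :=
        CfsgLib.Solvable.card_sup_of_disjoint (by rw [normalizer_eq_top]; exact le_top)
          (disjoint_iff.mpr hdis)
      refine ⟨inferInstance, isMulCommutative_of_comm fun a ha b hb => ?_, ?_, ?_⟩
      · rw [← SetLike.mem_coe, mul_normal] at ha hb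
        obtain ⟨a1, ha1, a2, ha2, rfl⟩ := ha
        obtain ⟨b1, hb1, b2, hb2, rfl⟩ := hb
        have hc := fun (x : G) (hx : x ∈ N) (y : G) (hy : y ∈ F) =>
          Subgroup.commute_of_normal_of_disjoint N F hNn hFn (disjoint_iff.mpr hdis) x y hx hy
        have hNN : Commute a1 b1 := congrArg Subtype.val (he'.1.is_comm.comm ⟨a1, ha1⟩ ⟨b1, hb1⟩)
        have hFF : Commute a2 b2 := congrArg Subtype.val (hFc.is_comm.comm ⟨a2, ha2⟩ ⟨b2, hb2⟩)
        exact ((hNN.mul_right (hc a1 ha1 b2 hb2)).mul_left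
          ((hc b1 hb1 a2 ha2).symm.mul_right hFF)).eq
      · rw [hcard, Nat.coprime_mul_iff_left]
        refine ⟨?_, hFhall.coprime_dvd_right (index_dvd_of_le le_sup_right)⟩
        obtain ⟨j, hj⟩ := hNp.exists_card_eq
        rw [hj]
        exact ((hq.coprime_iff_not_dvd.mpr hNidx).pow_left j).coprime_dvd_right
          (index_dvd_of_le le_sup_left)
      · intro l hl hd
        rw [hcard] at hd
        rcases hl.dvd_mul.mp hd with hd | hd
        · have hlq := CfsgLib.Solvable.isPGroup_prime_eq hNp hl hd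
          exact ⟨N, hNn, hN, hmin, le_sup_left, hlq ▸ hNp⟩
        · obtain ⟨N', h1, h2, h3, h4, h5⟩ := hFq l hl hd
          exact ⟨N', h1, h2, h3, h4.trans le_sup_right, h5⟩
    exact hle (le_sup_left.trans (hFmax.le_of_ge hnew le_sup_right))
  -- complement
  obtain ⟨H, hFH⟩ := exists_right_complement'_of_coprime hFhall
  have hFC : ∀ N : Subgroup G, N ≤ F → F ≤ centralizer (N : Set G) := fun N hN x hx =>
    mem_centralizer_iff.mpr fun y hy =>
      congrArg Subtype.val (hFc.is_comm.comm ⟨y, hN hy⟩ ⟨x, hx⟩)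
  have hmemFH : ∀ g : G, ∃ f ∈ F, ∃ k ∈ H, f * k = g := fun g =>
    (CfsgLib.Solvable.mem_sup_of_le_normalizer (by rw [normalizer_eq_top]; exact le_top)).mp
      (show g ∈ F ⊔ H by rw [hFH.sup_eq_top]; exact mem_top g)
  have hfaith : centralizer (F : Set G) ⊓ H = ⊥ := by
    by_contra hne
    have hn : (centralizer (F : Set G) ⊓ H).Normal := by
      refine ⟨fun x hx g => ?_⟩
      obtain ⟨f, hf, k, hk, rfl⟩ := hmemFH g
      have h1 : k * x * k⁻¹ ∈ centralizer (F : Set G) ⊓ H :=
        ⟨(inferInstance : (centralizer (F : Set G)).Normal).conj_mem x hx.1 k,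
          H.mul_mem (H.mul_mem hk hx.2) (H.inv_mem hk)⟩
      rw [show f * k * x * (f * k)⁻¹ = f * (k * x * k⁻¹) * f⁻¹ by group,
        mem_centralizer_iff.mp h1.1 f hf, mul_inv_cancel_right]
      exact h1
    obtain ⟨N, hNn, hN, hle, hmin⟩ := CfsgLib.Solvable.exists_minimal_normal_le _ hne
    refine hN (le_bot_iff.mp ?_)
    rw [← hFH.disjoint.eq_bot]
    exact le_inf (hminF N hNn hN hmin) (hle.trans inf_le_right)
  have hHsol : Group.IsSolvable ↥H := inferInstance
  have hHca : CA ↥H :=
    (CA.quotient_solvable _ G rfl hsol h F).of_equiv hFH.symm.QuotientMulEquiv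
  have hcopFH : (Nat.card F).Coprime (Nat.card H) := by rwa [← hFH.symm.index_eq_card]
  have hHmin : ∀ R : Subgroup H, R.Normal → R ≠ ⊥ →
      (∀ K : Subgroup H, K.Normal → K ≤ R → K = ⊥ ∨ K = R) → (Nat.card R).Prime := by
    intro R hRn hR hRmin
    obtain ⟨hRc, r, hr, hRexp⟩ := CfsgLib.Solvable.minimal_normal_elementary_abelian R hR hRmin
    have := Fact.mk hr
    set R' := R.map H.subtype with hR'
    have hR'c : IsMulCommutative ↥R' := isMulCommutative_of_comm fun a ⟨a', ha, hae⟩ b ⟨b', hb, hbe⟩ => by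
      rw [← hae, ← hbe, ← map_mul, ← map_mul,
        show a' * b' = b' * a' from congrArg Subtype.val (hRc.is_comm.comm ⟨a', ha⟩ ⟨b', hb⟩)]
    have hR'H : H ≤ normalizer (R' : Set G) := by
      intro k hk
      refine mem_normalizer_iff.mpr fun x => ?_
      constructor
      · rintro ⟨y, hy, rfl⟩
        exact ⟨⟨k, hk⟩ * y * ⟨k, hk⟩⁻¹, hRn.conj_mem y hy _, rfl⟩
      · rintro ⟨y, hy, hyx⟩
        refine ⟨⟨k, hk⟩⁻¹ * y * ⟨k, hk⟩, by simpa using hRn.conj_mem y hy (⟨k, hk⟩ : H)⁻¹, ?_⟩
        rw [map_mul, map_mul, map_inv, hyx]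
        simp [mul_assoc]
    -- some minimal normal subgroup is acted on faithfully
    obtain ⟨N, hNn, hN, hNmin, hNF, hNR⟩ : ∃ N : Subgroup G, N.Normal ∧ N ≠ ⊥ ∧
        (∀ K : Subgroup G, K.Normal → K ≤ N → K = ⊥ ∨ K = N) ∧ N ≤ F ∧
        ¬ R' ≤ centralizer (N : Set G) := by
      by_contra hall
      push Not at hall
      have hle : F ≤ centralizer (R' : Set G) := by
        rw [← relIndex_eq_one]
        by_contra hne
        obtain ⟨q, hq, hqd⟩ := Nat.exists_prime_and_dvd hne
        obtain ⟨N, hNn, hN, hNmin, hNF, hNq⟩ := hFq q hq (hqd.trans (relIndex_dvd_card _ _))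
        obtain ⟨q', hq', -, hNq', hsyl, -, -, -⟩ := hMin N hNn hN hNmin
        have := Fact.mk hq
        have := Fact.mk hq'
        obtain rfl : q = q' := by
          obtain ⟨j, hj, hj'⟩ := hNq.nontrivial_iff_card.mp ((Subgroup.nontrivial_iff_ne_bot N).mpr hN)
          exact CfsgLib.Solvable.isPGroup_prime_eq hNq' hq (hj' ▸ dvd_pow_self q hj.ne')
        obtain ⟨P⟩ := (inferInstance : Nonempty (Sylow q G))
        have hNC : N ≤ centralizer (R' : Set G) ⊓ F :=
          le_inf (le_centralizer_iff.mp (hall N hNn hN hNmin hNF)) hNF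
        have h1 : (centralizer (R' : Set G)).relIndex F ∣ N.index :=
          (relIndex_dvd_of_le_left F (hNC.trans inf_le_left)).trans (relIndex_dvd_index_of_normal N F)
        exact P.not_dvd_index ((hqd.trans h1).trans (index_dvd_of_le (hsyl _ P.isPGroup')))
      refine hR ?_
      rw [← map_eq_bot_iff_of_injective R H.subtype_injective, ← hR', ← le_bot_iff, ← hfaith]
      exact le_inf (le_centralizer_iff.mp hle) (map_subtype_le R)
    obtain ⟨q, hq, hNe, hNq, -, -, -, -⟩ := hMin N hNn hN hNmin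
    have := Fact.mk hq
    have := hNe.1
    have hbot : R' ⊓ centralizer (N : Set G) = ⊥ := by
      let K : Subgroup H := R ⊓ (centralizer (N : Set G)).subgroupOf H
      have hKn : K.Normal := by
        have : (centralizer (N : Set G)).Normal := inferInstance
        exact normal_inf_normal R _
      rcases hRmin K hKn inf_le_left with hK | hK
      · rw [← map_eq_bot_iff_of_injective K H.subtype_injective] at hK
        rw [← hK, map_inf _ _ _ H.subtype_injective, subgroupOf_map_subtype]
        refine le_antisymm (le_inf inf_le_left (le_inf inf_le_right ?_)) (inf_le_inf le_rfl inf_le_left)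
        exact inf_le_left.trans (map_subtype_le R)
      · exfalso
        refine hNR fun x ⟨y, hy, hyx⟩ => ?_
        have : y ∈ K := by rw [hK]; exact hy
        exact hyx ▸ this.2
    have hcop : (Nat.card R').Coprime (Nat.card N) :=
      (hcopFH.symm.coprime_dvd_left (card_dvd_of_le (map_subtype_le R))).coprime_dvd_right
        (card_dvd_of_le hNF)
    have hcyc := isCyclic_of_transitive h (hFC N hNF) hFH.sup_eq_top hNe.2 hN hR'H hcop hbot
    have : IsCyclic ↥R := isCyclic_of_injective
      (R.equivMapOfInjective H.subtype H.subtype_injective).toMonoidHom (MulEquiv.injective _)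
    have h1 : Monoid.exponent R ∣ r := Monoid.exponent_dvd_of_forall_pow_eq_one fun v =>
      Subtype.ext (by simpa using hRexp v v.2)
    rw [IsCyclic.exponent_eq_card] at h1
    rw [((Nat.dvd_prime hr).mp h1).resolve_left fun e => hR (card_eq_one.mp e)]
    exact hr
  -- make the intersections with `F` equal
  have hFcomm : ∀ C : Subgroup G, IsMulCommutative ↥(C ⊓ F) := fun C =>
    isMulCommutative_of_comm fun a ha b hb =>
      congrArg Subtype.val (hFc.is_comm.comm ⟨a, ha.2⟩ ⟨b, hb.2⟩)
  obtain ⟨g, hg⟩ := h (A ⊓ F) (B ⊓ F) (hFcomm A) (hFcomm B)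
    (by rw [card_inf_hall hFhall, card_inf_hall hFhall, he])
  set A1 := A.map (MulAut.conj g).toMonoidHom with hA1
  have hFmap : F.map (MulAut.conj g).toMonoidHom = F :=
    le_antisymm (map_conj_le le_rfl g) fun x hx =>
      ⟨g⁻¹ * x * g, by simpa using hFn.conj_mem x hx g⁻¹, by simp [mul_assoc]⟩
  set D := B ⊓ F with hD
  have hA1D : A1 ⊓ F = D := by
    rw [hg, map_inf _ _ _ (MulEquiv.injective _), hFmap]
  obtain ⟨f, hf, A', hA', hA'eq, hA'card⟩ := exists_conj_split hFhall hFH hA1D
  obtain ⟨f', hf', B', hB', hB'eq, hB'card⟩ := exists_conj_split hFhall hFH hD.symm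
  set X := H ⊓ normalizer (D : Set G) with hX
  have hcardeq : Nat.card A' = Nat.card B' := by
    have e1 := CfsgLib.Solvable.card_inf_mul_relIndex F A1
    have e2 := CfsgLib.Solvable.card_inf_mul_relIndex F B
    rw [inf_comm, hA1D, hA1, card_map_of_injective (MulEquiv.injective _), ← hA1] at e1
    rw [inf_comm, ← hD, ← he] at e2
    rw [hA'card, hB'card]
    exact Nat.eq_of_mul_eq_mul_left Nat.card_pos (e1.trans e2.symm)
  have hXsol : Group.IsSolvable ↥X := inferInstance
  have hXconj : AllConj ↥X := by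
    refine allConj_of_cyclic_sylow _ X rfl hXsol fun p S hp hS => ?_
    have := Fact.mk hp
    by_contra hnc
    let S' : Subgroup H := S.map (inclusion (inf_le_left : X ≤ H))
    have hS'nc : ¬ IsCyclic ↥S' := fun hc => hnc (isCyclic_of_injective
      (S.equivMapOfInjective (inclusion (inf_le_left : X ≤ H)) (inclusion_injective _)).toMonoidHom (MulEquiv.injective _))
    obtain ⟨-, hS'eq, hS'na⟩ :=
      pSubgroup_cyclic_or_core hHca hHsol hHmin (hS.map (inclusion (inf_le_left : X ≤ H))) hS'nc
    set Q := (Cfsg.pCore 2 H).map H.subtype with hQ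
    have hQX : Q ≤ normalizer (D : Set G) := by
      rw [hQ, ← hS'eq]
      rintro _ ⟨_, ⟨y, -, rfl⟩, rfl⟩
      exact y.2.2
    have hQn := CfsgLib.Solvable.pCore_normal (p := 2) H
    -- `Q` maps every element of every minimal normal subgroup into the subgroup it generates
    have hscal : ∀ N : Subgroup G, N.Normal → N ≠ ⊥ →
        (∀ K : Subgroup G, K.Normal → K ≤ N → K = ⊥ ∨ K = N) → ∀ v ∈ N, ∀ a ∈ Q,
        a * v * a⁻¹ ∈ zpowers v := by
      intro N hNn hN hNmin v hv a ha
      obtain ⟨q, hq, hNe, hNq, hsyl, hd, hnA, hnB⟩ := hMin N hNn hN hNmin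
      have := Fact.mk hq
      have hNF : N ≤ F := hminF N hNn hN hNmin
      set E := D ⊓ N with hE
      have hEq : IsPGroup q ↥E := hNq.to_le inf_le_right
      obtain ⟨k, hk⟩ := hEq.exists_card_eq
      have hk0 : 1 ≤ k := by
        by_contra hk0
        obtain rfl : k = 0 := by omega
        rw [pow_zero, card_eq_one] at hk
        obtain ⟨b, hb⟩ := exists_prime_orderOf_dvd_card' (G := B) q (he ▸ hd)
        have hbN : (b : G) ∈ N := hsyl (zpowers (b : G)) (IsPGroup.of_card (n := 1)
          (by rw [Nat.card_zpowers, Subgroup.orderOf_coe, hb, pow_one])) (mem_zpowers _)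
        have hbE : (b : G) ∈ E := ⟨⟨b.2, hNF hbN⟩, hbN⟩
        rw [hk, mem_bot] at hbE
        rw [show b = 1 from Subtype.ext hbE, orderOf_one] at hb
        exact hq.ne_one hb.symm
      have hQE : ∀ E' : Subgroup G, E' ≤ N → Nat.card E' = q ^ k → ∀ a ∈ Q, ∀ x ∈ E',
          a * x * a⁻¹ ∈ E' := by
        intro E' hE' hE'c a ha x hx
        obtain ⟨g, hg⟩ := h E E'
          (isMulCommutative_of_comm fun u hu w hw =>
            congrArg Subtype.val (hFc.is_comm.comm ⟨u, hNF hu.2⟩ ⟨w, hNF hw.2⟩))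
          (isMulCommutative_of_comm fun u hu w hw =>
            congrArg Subtype.val (hFc.is_comm.comm ⟨u, hNF (hE' hu)⟩ ⟨w, hNF (hE' hw)⟩))
          (by rw [hk, hE'c])
        obtain ⟨f, hf, c, hc, rfl⟩ := hmemFH g
        have hfix : ∀ y ∈ N, f * y * f⁻¹ = y := fun y hy => by
          rw [← mem_centralizer_iff.mp (hFC N hNF hf) y hy, mul_inv_cancel_right]
        have hE'eq : ∀ y, y ∈ E' ↔ ∃ e ∈ E, c * e * c⁻¹ = y := by
          intro y
          rw [hg]
          constructor
          · rintro ⟨e, he, rfl⟩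
            exact ⟨e, he, (by
              rw [MulEquiv.coe_toMonoidHom, MulAut.conj_apply,
                show f * c * e * (f * c)⁻¹ = f * (c * e * c⁻¹) * f⁻¹ by group,
                hfix _ (hNn.conj_mem e he.2 c)])⟩
          · rintro ⟨e, he, rfl⟩
            refine ⟨e, he, ?_⟩
            rw [MulEquiv.coe_toMonoidHom, MulAut.conj_apply,
              show f * c * e * (f * c)⁻¹ = f * (c * e * c⁻¹) * f⁻¹ by group,
              hfix _ (hNn.conj_mem e he.2 c)]
        obtain ⟨e, he, rfl⟩ := (hE'eq x).mp hx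
        obtain ⟨a', ha', rfl⟩ := ha
        have ha2 : c⁻¹ * H.subtype a' * c ∈ Q :=
          ⟨⟨c, hc⟩⁻¹ * a' * ⟨c, hc⟩, by simpa using hQn.conj_mem a' ha' (⟨c, hc⟩ : H)⁻¹, rfl⟩
        refine (hE'eq _).mpr ⟨c⁻¹ * H.subtype a' * c * e * (c⁻¹ * H.subtype a' * c)⁻¹,
          ⟨(mem_normalizer_iff.mp (hQX ha2) e).mp he.1, hNn.conj_mem e he.2 _⟩, by group⟩
      by_contra hnot
      have hv1 : v ≠ 1 := fun e => hnot (by rw [e]; simp)
      obtain ⟨K, hvK, hKmax⟩ := exists_maximal_ge_of_wellFoundedGT
        (fun K : Subgroup G => K ≤ N ∧ a * v * a⁻¹ ∉ K) (zpowers v) ⟨zpowers_le.mpr hv, hnot⟩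
      obtain ⟨hKN, hwK⟩ := hKmax.prop
      set w := a * v * a⁻¹ with hw
      have hwN : w ∈ N := hNn.conj_mem v hv a
      have := hNe.1
      have hNle : N ≤ K ⊔ zpowers w := by
        intro u hu
        by_cases huK : u ∈ K
        · exact mem_sup_left huK
        have hwu : w ∈ K ⊔ zpowers u := by
          by_contra hwu
          exact huK (hKmax.le_of_ge ⟨sup_le hKN (zpowers_le.mpr hu), hwu⟩ le_sup_left
            (mem_sup_right (mem_zpowers u)))
        have hun : zpowers u ≤ normalizer (K : Set G) :=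
          (zpowers_le.mpr (mem_centralizer_iff.mpr fun y hy =>
            congrArg Subtype.val (hNe.1.is_comm.comm ⟨y, hKN hy⟩ ⟨u, hu⟩))).trans
              (centralizer_le_normalizer _)
        obtain ⟨y, hy, z, hz, hyz⟩ := (CfsgLib.Solvable.mem_sup_of_le_normalizer hun).mp hwu
        have hz1 : z ≠ 1 := fun e => hwK (by rw [← hyz, e, mul_one]; exact hy)
        have hzu : zpowers z = zpowers u := eq_of_le_of_card_ge (zpowers_le.mpr hz) (by
          rw [Nat.card_zpowers, Nat.card_zpowers, orderOf_eq_prime (hNe.2 z (zpowers_le.mpr hu hz)) hz1,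
            orderOf_eq_prime (hNe.2 u hu) fun e => huK (e ▸ one_mem K)])
        have hzmem : z ∈ K ⊔ zpowers w := by
          rw [show z = y⁻¹ * w by rw [← hyz]; group]
          exact mul_mem (mem_sup_left (inv_mem hy)) (mem_sup_right (mem_zpowers w))
        exact zpowers_le.mpr hzmem (hzu.ge (mem_zpowers u))
      have hwn : zpowers w ≤ normalizer (K : Set G) :=
        (zpowers_le.mpr (mem_centralizer_iff.mpr fun y hy =>
          congrArg Subtype.val (hNe.1.is_comm.comm ⟨y, hKN hy⟩ ⟨w, hwN⟩))).trans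
            (centralizer_le_normalizer _)
      obtain ⟨i, hi⟩ := (hNq.to_le hKN).exists_card_eq
      obtain ⟨t, ht⟩ := hNq.exists_card_eq
      have hki : q ^ k ∣ Nat.card K := by
        rw [hi]
        refine pow_dvd_pow q ?_
        have h1 : Nat.card N ≤ Nat.card K * q := by
          refine le_trans (card_le_of_le hNle) (le_trans (Nat.le_of_dvd ?_
            (CfsgLib.Solvable.card_sup_dvd hwn)) ?_)
          · exact Nat.mul_pos Nat.card_pos Nat.card_pos
          · refine Nat.mul_le_mul_left _ ?_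
            rw [Nat.card_zpowers]
            exact orderOf_le_of_pow_eq_one hq.pos (hNe.2 w hwN)
        rw [ht, hi, ← pow_succ, Nat.pow_le_pow_iff_right hq.one_lt] at h1
        have h2 : k < t := by
          rw [← Nat.pow_lt_pow_iff_right hq.one_lt, ← hk, ← ht]
          refine lt_of_le_of_ne (card_le_of_le inf_le_right) fun e => hnB ?_
          rw [← eq_of_le_of_card_ge (inf_le_right : E ≤ N) e.ge]
          exact inf_le_left.trans inf_le_left
        omega
      have hv' : v ∈ K := hvK (mem_zpowers v)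
      obtain ⟨E', hE'c, hE'le⟩ := Sylow.exists_subgroup_card_pow_prime_le q hki
        (zpowers (⟨v, hv'⟩ : K))
        (n := 1) (by rw [Nat.card_zpowers, Subgroup.orderOf_mk, pow_one,
          orderOf_eq_prime (hNe.2 v hv) hv1]) hk0
      have hvE : v ∈ E'.map K.subtype := ⟨_, hE'le (mem_zpowers _), rfl⟩
      exact hwK (map_subtype_le E' (hQE (E'.map K.subtype) ((map_subtype_le E').trans hKN)
        (by rw [card_map_of_injective K.subtype_injective, hE'c]) a ha v hvE))
    apply hS'na
    refine isMulCommutative_of_comm fun a ha b hb => ?_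
    rw [hS'eq] at ha hb
    rw [← commutatorElement_eq_one_iff_mul_comm]
    apply H.subtype_injective
    rw [map_one]
    have hc : H.subtype ⁅a, b⁆ ∈ centralizer (F : Set G) ⊓ H := by
      refine ⟨zpowers_le.mp (le_centralizer_iff.mp ?_), (⁅a, b⁆).2⟩
      rw [← relIndex_eq_one]
      by_contra hne
      obtain ⟨q, hq, hqd⟩ := Nat.exists_prime_and_dvd hne
      obtain ⟨N, hNn, hN, hNmin, hNF, hNq⟩ := hFq q hq (hqd.trans (relIndex_dvd_card _ _))
      obtain ⟨q', hq', -, hNq', hsyl, -, -, -⟩ := hMin N hNn hN hNmin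
      have := Fact.mk hq
      have := Fact.mk hq'
      obtain rfl : q = q' := by
        obtain ⟨j, hj, hj'⟩ := hNq.nontrivial_iff_card.mp ((Subgroup.nontrivial_iff_ne_bot N).mpr hN)
        exact CfsgLib.Solvable.isPGroup_prime_eq hNq' hq (hj' ▸ dvd_pow_self q hj.ne')
      obtain ⟨P⟩ := (inferInstance : Nonempty (Sylow q G))
      have hNC : N ≤ centralizer (zpowers (H.subtype ⁅a, b⁆) : Set G) := by
        set a' := H.subtype a
        set b' := H.subtype b
        have hab' : ∀ v ∈ N, a' * b' * v * (a' * b')⁻¹ = b' * a' * v * (b' * a')⁻¹ := by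
          intro v hv
          obtain ⟨i, hi⟩ := hscal N hNn hN hNmin v hv _ (mem_map_of_mem H.subtype ha)
          obtain ⟨j, hj⟩ := hscal N hNn hN hNmin v hv _ (mem_map_of_mem H.subtype hb)
          have hi' : a' * v * a'⁻¹ = v ^ i := hi.symm
          have hj' : b' * v * b'⁻¹ = v ^ j := hj.symm
          calc a' * b' * v * (a' * b')⁻¹ = a' * (b' * v * b'⁻¹) * a'⁻¹ := by group
            _ = (v ^ i) ^ j := by rw [hj', ← conj_zpow, hi']
            _ = (v ^ j) ^ i := by rw [← zpow_mul, ← zpow_mul, mul_comm]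
            _ = b' * (a' * v * a'⁻¹) * b'⁻¹ := by rw [hi', ← conj_zpow, hj']
            _ = b' * a' * v * (b' * a')⁻¹ := by group
        intro v hv
        refine mem_centralizer_zpowers_iff.mpr ?_
        have h1 := hab' ((b' * a')⁻¹ * v * (b' * a'))
          (by simpa using hNn.conj_mem v hv (b' * a')⁻¹)
        rw [map_commutatorElement, commutatorElement_def]
        calc v * (a' * b' * a'⁻¹ * b'⁻¹)
            = b' * a' * ((b' * a')⁻¹ * v * (b' * a')) * (b' * a')⁻¹ *
                ((a' * b') * (b' * a')⁻¹) := by group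
          _ = a' * b' * ((b' * a')⁻¹ * v * (b' * a')) * (a' * b')⁻¹ *
                ((a' * b') * (b' * a')⁻¹) := by rw [h1]
          _ = a' * b' * a'⁻¹ * b'⁻¹ * v := by group
      exact P.not_dvd_index (((hqd.trans (relIndex_dvd_of_le_left F hNC)).trans
        (relIndex_dvd_index_of_normal N F)).trans (index_dvd_of_le (hsyl _ P.isPGroup')))
    rw [hfaith, mem_bot] at hc
    exact hc
  have hA'X : A' ≤ X := hA'
  have hB'X : B' ≤ X := hB'
  obtain ⟨x, hx⟩ := hXconj (A'.subgroupOf X) (B'.subgroupOf X) (by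
    rw [Nat.card_congr (subgroupOfEquivOfLe hA'X).toEquiv,
      Nat.card_congr (subgroupOfEquivOfLe hB'X).toEquiv, hcardeq])
  apply hgoal
  refine ⟨f'⁻¹ * ((x : G) * f * g), ?_⟩
  have hxB : B' = A'.map (MulAut.conj (x : G)).toMonoidHom := by
    have h1 := congrArg (map X.subtype) hx
    rw [subgroupOf_map_subtype, inf_eq_left.mpr hB'X, map_map] at h1
    rw [h1]
    conv_rhs => rw [← inf_eq_left.mpr hA'X, ← subgroupOf_map_subtype, map_map]
    congr 1
  have hxD : D.map (MulAut.conj (x : G)).toMonoidHom = D := by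
    ext y
    constructor
    · rintro ⟨d, hd, rfl⟩
      exact (mem_normalizer_iff.mp x.2.2 d).mp hd
    · intro hy
      refine ⟨(x : G)⁻¹ * y * x, ?_, by simp [mul_assoc]⟩
      exact (mem_normalizer_iff.mp x.2.2 _).mpr (by simpa [mul_assoc] using hy)
  have hBA : B.map (MulAut.conj f').toMonoidHom =
      (A1.map (MulAut.conj f).toMonoidHom).map (MulAut.conj (x : G)).toMonoidHom := by
    rw [hA'eq, hB'eq, Subgroup.map_sup, hxD, ← hxB]
  apply map_injective (f := (MulAut.conj f').toMonoidHom) (MulEquiv.injective _)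
  rw [hBA, hA1, map_map, map_map, map_map]
  congr 1
  ext y
  simp [mul_assoc]

end CfsgLib.ConjAbelian
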