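import Cfsg.Agent.Lib.PGroup.CyclicMaximal
import Cfsg.Agent.Lib.PGroup.Basic
import Cfsg.Agent.Lib.Solvable.Basic
import Mathlib.GroupTheory.Nilpotent
import Mathlib.GroupTheory.Frattini
import Mathlib.GroupTheory.Sylow
import Cfsg.Prelude.Def_Transfer

/-!
# Groups in which abelian subgroups of equal order are conjugate: elementary facts
-/

set_option autoImplicit false

open Subgroup

namespace CfsgLib.ConjAbelian

universe u

/-- Any two abelian subgroups of the same order are conjugate. -/
def CA (G : Type u) [Group G] : Prop :=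
  ∀ A B : Subgroup G, IsMulCommutative ↥A → IsMulCommutative ↥B → Nat.card ↥A = Nat.card ↥B →
    ∃ g : G, B = A.map (MulAut.conj g).toMonoidHom

variable {G : Type u} [Group G]

theorem map_conj_le {M : Subgroup G} [hM : M.Normal] {A : Subgroup G} (h : A ≤ M) (g : G) :
    A.map (MulAut.conj g).toMonoidHom ≤ M := by
  rintro _ ⟨a, ha, rfl⟩
  exact hM.conj_mem a (h ha) g

theorem isMulCommutative_of_comm {A : Subgroup G} (h : ∀ a ∈ A, ∀ b ∈ A, a * b = b * a) :
    IsMulCommutative ↥A := ⟨⟨fun a b => Subtype.ext (h a.1 a.2 b.1 b.2)⟩⟩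

theorem zpowers_comm (x : G) : IsMulCommutative ↥(zpowers x) :=
  isMulCommutative_of_comm fun a ⟨i, hi⟩ b ⟨j, hj⟩ => by
    subst hi hj
    exact ((Commute.refl x).zpow_zpow i j).eq

/-- An element of the order of an element of a normal subgroup lies in it. -/
theorem CA.mem_of_orderOf_eq (h : CA G) {M : Subgroup G} [M.Normal] {a m : G} (hm : m ∈ M)
    (he : orderOf m = orderOf a) : a ∈ M := by
  obtain ⟨g, hg⟩ := h (zpowers m) (zpowers a) (zpowers_comm m) (zpowers_comm a)
    (by rw [Nat.card_zpowers, Nat.card_zpowers, he])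
  exact (hg.le.trans (map_conj_le (zpowers_le.mpr hm) g)) (mem_zpowers a)

/-- An element of order `p ^ 2` excludes two commuting independent elements of order `p`. -/
theorem CA.mem_zpowers_of_commute [Finite G] (h : CA G) {p : ℕ} [Fact p.Prime] {x : G}
    (hx : orderOf x = p ^ 2) {y z : G} (hy : orderOf y = p) (hz : orderOf z = p)
    (hc : y * z = z * y) : z ∈ zpowers y := by
  by_contra hzy
  have hp : p.Prime := Fact.out
  let E : Subgroup G := closure {y, z}
  have hE : IsMulCommutative ↥E := isMulCommutative_of_comm fun a ha b hb => by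
    have h2 : E ≤ centralizer ({y, z} : Set G) := (closure_le _).mpr fun u hu =>
      mem_centralizer_iff.mpr fun v hv => by
        rcases hu with rfl | rfl <;> rcases hv with rfl | rfl
        exacts [rfl, hc.symm, hc, rfl]
    have h3 : E ≤ centralizer (E : Set G) := by
      refine le_centralizer_iff.mp ((closure_le _).mpr fun u hu => ?_)
      exact mem_centralizer_iff.mpr fun v hv => (mem_centralizer_iff.mp (h2 hv) u hu).symm
    exact (mem_centralizer_iff.mp (h3 ha) b hb).symm
  have hinf : zpowers y ⊓ zpowers z = ⊥ := by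
    rw [eq_bot_iff]
    intro u ⟨hu1, hu2⟩
    by_contra hu
    have hu' : u ≠ 1 := hu
    have huo : orderOf u = p := by
      have h1 := orderOf_dvd_natCard (⟨u, hu1⟩ : zpowers y)
      rw [Subgroup.orderOf_mk, Nat.card_zpowers, hy] at h1
      rcases (Nat.dvd_prime hp).mp h1 with h1 | h1
      · exact absurd (orderOf_eq_one_iff.mp h1) hu'
      · exact h1
    have h1 : zpowers u = zpowers y := eq_of_le_of_card_ge (zpowers_le.mpr hu1)
      (by rw [Nat.card_zpowers, Nat.card_zpowers, hy, huo])
    have h2 : zpowers u = zpowers z := eq_of_le_of_card_ge (zpowers_le.mpr hu2)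
      (by rw [Nat.card_zpowers, Nat.card_zpowers, hz, huo])
    exact hzy (h1 ▸ h2 ▸ mem_zpowers z)
  have hEeq : E = zpowers y ⊔ zpowers z := by
    refine le_antisymm ((closure_le _).mpr ?_) (sup_le (zpowers_le.mpr (subset_closure (by simp)))
      (zpowers_le.mpr (subset_closure (by simp))))
    rintro _ (rfl | rfl)
    exacts [mem_sup_left (mem_zpowers _), mem_sup_right (mem_zpowers _)]
  have hcard : Nat.card E = p ^ 2 := by
    have hN : zpowers z ≤ normalizer (zpowers y : Set G) := by
      refine zpowers_le.mpr (mem_normalizer_iff.mpr fun u => ?_)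
      constructor
      · rintro ⟨k, rfl⟩
        refine ⟨k, ?_⟩
        show y ^ k = z * y ^ k * z⁻¹
        rw [((show Commute z y from hc.symm).zpow_right k).eq, mul_inv_cancel_right]
      · rintro ⟨k, hk⟩
        refine ⟨k, ?_⟩
        have hk' : z * u * z⁻¹ = y ^ k := hk.symm
        calc y ^ k = z⁻¹ * y ^ k * z := by
              rw [mul_assoc, ← ((show Commute z y from hc.symm).zpow_right k).eq,
                inv_mul_cancel_left]
          _ = u := by rw [← hk']; simp [mul_assoc]
    rw [hEeq, CfsgLib.Solvable.card_sup_of_disjoint hN (disjoint_iff.mpr hinf), Nat.card_zpowers,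
      Nat.card_zpowers, hy, hz, sq]
  obtain ⟨g, hg⟩ := h E (zpowers x) hE (zpowers_comm x) (by rw [hcard, Nat.card_zpowers, hx])
  have hxmem : x ∈ E.map (MulAut.conj g).toMonoidHom := hg.le (mem_zpowers x)
  obtain ⟨e, he, hex⟩ := hxmem
  have hep : e ^ p = 1 := by
    rw [hEeq] at he
    have h1 : ∀ a ∈ E, a ^ p = 1 := fun a ha => by
      induction ha using closure_induction with
      | mem u hu =>
        rcases hu with rfl | rfl
        · rw [← hy]; exact pow_orderOf_eq_one _
        · rw [← hz]; exact pow_orderOf_eq_one _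
      | one => exact one_pow p
      | mul a b ha hb h1 h2 =>
        have hab : a * b = b * a := congrArg Subtype.val
          (hE.is_comm.comm ⟨a, ha⟩ ⟨b, hb⟩)
        rw [(show Commute a b from hab).mul_pow, h1, h2, one_mul]
      | inv a _ h1 => rw [inv_pow, h1, inv_one]
    exact h1 e (hEeq ▸ he)
  have hxp : x ^ p = 1 := by
    rw [← hex, MulEquiv.coe_toMonoidHom, ← map_pow, hep, map_one]
  have := orderOf_dvd_of_pow_eq_one hxp
  rw [hx] at this
  have := Nat.le_of_dvd hp.pos this
  nlinarith [hp.one_lt]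

/-- Either every element has order dividing `p`, or the elements of order `p` form one cyclic
subgroup, in any `p`-subgroup. -/
theorem CA.pGroup_dichotomy [Finite G] (h : CA G) {p : ℕ} [Fact p.Prime] {P : Subgroup G}
    (hP : IsPGroup p ↥P) :
    (∀ x ∈ P, x ^ p = 1) ∨
      ∀ u v : P, u ^ p = 1 → u ≠ 1 → v ^ p = 1 → v ∈ zpowers u := by
  have hp : p.Prime := Fact.out
  refine or_iff_not_imp_left.mpr fun hne => ?_
  push Not at hne
  obtain ⟨x, hxP, hx⟩ := hne
  obtain ⟨k, hk⟩ := hP.exists_orderOf_eq_pow ⟨x, hxP⟩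
  rw [Subgroup.orderOf_mk] at hk
  have hk2 : 2 ≤ k := by
    by_contra hlt
    apply hx
    rw [← orderOf_dvd_iff_pow_eq_one, hk]
    exact (pow_dvd_pow p (show k ≤ 1 by omega)).trans (by rw [pow_one])
  have hx2 : orderOf (x ^ p ^ (k - 2)) = p ^ 2 := by
    rw [orderOf_pow, hk, Nat.gcd_eq_right (pow_dvd_pow p (Nat.sub_le k 2)),
      Nat.pow_div (Nat.sub_le k 2) hp.pos, Nat.sub_sub_self hk2]
  have : Nontrivial P := ⟨⟨⟨x, hxP⟩, 1, fun e => hx (by
    rw [show x = 1 from congrArg Subtype.val e, one_pow])⟩⟩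
  have hct := hP.center_nontrivial
  obtain ⟨c, hc, hcord⟩ : ∃ c : P, c ∈ center P ∧ orderOf c = p := by
    have hdvd : p ∣ Nat.card (center P) := by
      obtain ⟨j, hj, hj'⟩ := (hP.to_subgroup (center P)).nontrivial_iff_card.mp hct
      rw [hj']
      exact dvd_pow_self p hj.ne'
    obtain ⟨c, hc⟩ := exists_prime_orderOf_dvd_card' p hdvd
    exact ⟨c, c.2, by rw [Subgroup.orderOf_coe, hc]⟩
  have hall : ∀ u : P, u ^ p = 1 → u ∈ zpowers c := by
    intro u hu
    by_cases hu1 : u = 1
    · rw [hu1]; exact one_mem _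
    have huo : orderOf u = p := orderOf_eq_prime hu hu1
    obtain ⟨j, hj⟩ := h.mem_zpowers_of_commute hx2 (y := (c : G)) (z := (u : G))
      (by rw [Subgroup.orderOf_coe, hcord]) (by rw [Subgroup.orderOf_coe, huo])
      (congrArg Subtype.val (mem_center_iff.mp hc u).symm)
    exact ⟨j, Subtype.ext (by simpa using hj)⟩
  intro u v hu hu1 hv
  have h1 : zpowers u = zpowers c := eq_of_le_of_card_ge (zpowers_le.mpr (hall u hu))
    (by rw [Nat.card_zpowers, Nat.card_zpowers, hcord, orderOf_eq_prime hu hu1])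
  rw [h1]
  exact hall v hv

/-- For odd `p` the Sylow subgroups are cyclic or have exponent dividing `p`. -/
theorem CA.cyclic_or_exponent [Finite G] (h : CA G) {p : ℕ} [Fact p.Prime] (hp : p ≠ 2)
    {P : Subgroup G} (hP : IsPGroup p ↥P) : IsCyclic ↥P ∨ ∀ x ∈ P, x ^ p = 1 := by
  rcases h.pGroup_dichotomy hP with h1 | h1
  · exact Or.inr h1
  · exact Or.inl (CfsgLib.PGroup.isCyclic_of_unique_order_prime hp hP fun u v hu hu1 hv =>
      h1 u v hu hu1 hv)

/-- A normal elementary abelian subgroup of order at least `p ^ 2` contains every `p`-element. -/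
theorem CA.le_of_elementary [Finite G] (h : CA G) {p : ℕ} [Fact p.Prime] {M : Subgroup G}
    [M.Normal] (hM : IsPGroup p ↥M) (he : Cfsg.IsElementaryAbelian p M) (h2 : p ^ 2 ≤ Nat.card M)
    {P : Subgroup G} (hP : IsPGroup p ↥P) : P ≤ M := by
  have hp : p.Prime := Fact.out
  obtain ⟨m, hm, hmo⟩ : ∃ m ∈ M, orderOf m = p := by
    have hdvd : p ∣ Nat.card M := by
      obtain ⟨k, hk⟩ := hM.exists_card_eq
      rcases Nat.eq_zero_or_pos k with rfl | hk0
      · rw [hk, pow_zero] at h2
        nlinarith [hp.one_lt]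
      · rw [hk]; exact dvd_pow_self p hk0.ne'
    obtain ⟨m, hm⟩ := exists_prime_orderOf_dvd_card' p hdvd
    exact ⟨m, m.2, by rw [Subgroup.orderOf_coe, hm]⟩
  intro x hx
  obtain ⟨k, hk⟩ := hP.exists_orderOf_eq_pow ⟨x, hx⟩
  rw [Subgroup.orderOf_mk] at hk
  rcases Nat.lt_or_ge k 2 with hk2 | hk2
  · interval_cases k
    · rw [pow_zero, orderOf_eq_one_iff] at hk
      rw [hk]; exact one_mem M
    · exact h.mem_of_orderOf_eq hm (by rw [hmo, hk, pow_one])
  · exfalso
    have hx2 : orderOf (x ^ p ^ (k - 2)) = p ^ 2 := by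
      rw [orderOf_pow, hk, Nat.gcd_eq_right (pow_dvd_pow p (Nat.sub_le k 2)),
        Nat.pow_div (Nat.sub_le k 2) hp.pos, Nat.sub_sub_self hk2]
    obtain ⟨z, hz, hzm⟩ : ∃ z ∈ M, z ∉ zpowers m := by
      by_contra hall
      push Not at hall
      have h3 := card_le_of_le (show M ≤ zpowers m from hall)
      rw [Nat.card_zpowers, hmo] at h3
      nlinarith [hp.one_lt]
    exact hzm (h.mem_zpowers_of_commute hx2 hmo
      (orderOf_eq_prime (he.2 z hz) fun e => hzm (e ▸ one_mem _))
      (congrArg Subtype.val (he.1.is_comm.comm ⟨m, hm⟩ ⟨z, hz⟩)))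

section Nilpotent

variable [Finite G]

/-- In a nilpotent group a subgroup of order prime to `p` centralises every `p`-subgroup. -/
theorem le_centralizer_of_nilpotent [Group.IsNilpotent G] {p : ℕ} [Fact p.Prime]
    {S K : Subgroup G} (hS : IsPGroup p ↥S) (hK : (Nat.card K).Coprime p) :
    K ≤ centralizer (S : Set G) := by
  obtain ⟨P, hSP⟩ := hS.exists_le_sylow
  refine le_trans ?_ (centralizer_le (show (S : Set G) ⊆ (P : Subgroup G) from hSP))
  have hn : ∀ (q : ℕ) [Fact q.Prime] (Q : Sylow q G), (Q : Subgroup G).Normal := fun q _ Q =>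
    (Group.isNilpotent_of_finite_tfae.out 0 3 rfl rfl).mp inferInstance q inferInstance Q
  have hPn := hn p P
  set C := centralizer ((P : Subgroup G) : Set G) with hC
  have hCn : C.Normal := inferInstance
  have hpow : ∃ j, C.index = p ^ j := by
    refine ⟨C.index.primeFactorsList.length, (Nat.eq_prime_pow_of_unique_prime_dvd
      Subgroup.FiniteIndex.index_ne_zero fun {q} hq hqd => ?_)⟩
    by_contra hqp
    have := Fact.mk hq
    obtain ⟨Q⟩ := (inferInstance : Nonempty (Sylow q G))
    have hQn := hn q Q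
    have hdisj : Disjoint (Q : Subgroup G) (P : Subgroup G) :=
      IsPGroup.disjoint_of_ne q p hqp _ _ Q.isPGroup' P.isPGroup'
    have hQC : (Q : Subgroup G) ≤ C := fun a ha => mem_centralizer_iff.mpr fun b hb =>
      ((Subgroup.commute_of_normal_of_disjoint _ _ hQn hPn hdisj a b ha hb)).eq.symm
    exact Q.not_dvd_index (hqd.trans (index_dvd_of_le hQC))
  obtain ⟨j, hj⟩ := hpow
  intro y hy
  have h1 : y ^ p ^ j ∈ C := hj ▸ C.pow_index_mem y
  have h2 : Nat.Coprime (p ^ j) (orderOf y) :=
    (Nat.Coprime.coprime_dvd_left (Subgroup.orderOf_dvd_natCard K hy) hK).symm.pow_left j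
  obtain ⟨k, hk⟩ := exists_pow_eq_self_of_coprime h2
  rw [← hk]
  exact pow_mem h1 k

end Nilpotent

end CfsgLib.ConjAbelian
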