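import Cfsg.Agent.Lib.ConjAbelian.Lift
import Mathlib.GroupTheory.SpecificGroups.Cyclic

/-!
# Quotients of groups with conjugate abelian subgroups
-/

set_option autoImplicit false

open Subgroup
open scoped commutatorElement

namespace CfsgLib.ConjAbelian

universe u

variable {G : Type u} [Group G] [Finite G]

/-- In a cyclic group the subgroups are ordered by divisibility of their orders. -/
theorem le_of_card_dvd_of_cyclic [IsCyclic G] {A B : Subgroup G}
    (h : Nat.card A ∣ Nat.card B) : A ≤ B := by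
  classical
  have := Fintype.ofFinite G
  have hB : (B : Set G).toFinset = {a : G | a ^ Nat.card B = 1}.toFinset := by
    refine Finset.eq_of_subset_of_card_le ?_ ?_
    · intro b hb
      rw [Set.mem_toFinset] at hb ⊢
      exact congrArg Subtype.val (pow_card_eq_one' (x := (⟨b, hb⟩ : B)))
    · rw [Set.toFinset_card, Set.toFinset_card]
      have h1 := IsCyclic.card_pow_eq_one_le (α := G) (n := Nat.card B) Nat.card_pos
      rw [← Fintype.card_subtype] at h1
      rw [← Nat.card_eq_fintype_card, ← Nat.card_eq_fintype_card]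
      rw [← Nat.card_eq_fintype_card] at h1
      exact h1
  intro a ha
  have h2 : a ^ Nat.card B = 1 := by
    obtain ⟨c, hc⟩ := h
    rw [hc, pow_mul, show a ^ Nat.card A = 1 from
      congrArg Subtype.val (pow_card_eq_one' (x := (⟨a, ha⟩ : A))), one_pow]
  have h3 : a ∈ (B : Set G).toFinset := by
    rw [hB, Set.mem_toFinset]
    exact h2
  exact Set.mem_toFinset.mp h3

/-- A prime all of whose Sylow subgroups are cyclic is harmless. -/
theorem okPrime_of_cyclic (M : Subgroup G) [M.Normal] (p : ℕ) [Fact p.Prime]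
    (hc : ∀ P : Sylow p G, IsCyclic ↥(P : Subgroup G)) : OkPrime M p := by
  intro _ S hS hSM
  obtain ⟨P, hSP⟩ := hS.exists_le_sylow
  have := hc P
  have hPM := CfsgLib.Subnormal.card_inf_sylow p (inferInstance : M.Normal).isSubnormal P
  rw [← hPM]
  set S' := S.subgroupOf (P : Subgroup G)
  set M' := M.subgroupOf (P : Subgroup G)
  have hle : M' ≤ S' := by
    have h1 : IsPGroup p (P : Subgroup G) := P.isPGroup'
    obtain ⟨i, hi⟩ := (h1.to_subgroup M').exists_card_eq
    obtain ⟨j, hj⟩ := (h1.to_subgroup S').exists_card_eq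
    rcases le_total i j with hij | hji
    · exact le_of_card_dvd_of_cyclic (by rw [hi, hj]; exact pow_dvd_pow p hij)
    · exfalso
      have h2 : S' ≤ M' := le_of_card_dvd_of_cyclic (by rw [hi, hj]; exact pow_dvd_pow p hji)
      exact hSM fun x hx => h2 (show (⟨x, hSP hx⟩ : (P : Subgroup G)) ∈ S' from hx)
  congr 2
  refine le_antisymm (fun x ⟨h1, h2⟩ => ⟨h2, hSP h1⟩) ?_
  intro x ⟨h1, h2⟩
  exact ⟨hle (show (⟨x, h2⟩ : (P : Subgroup G)) ∈ M' from h1), h1⟩

theorem IsPGroup.isCyclic_of_all_sylow {p : ℕ} (hc : ∀ P : Sylow p G, IsCyclic ↥(P : Subgroup G))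
    {S : Subgroup G} (hS : IsPGroup p ↥S) : IsCyclic ↥S := by
  obtain ⟨P, hSP⟩ := hS.exists_le_sylow
  have := hc P
  exact isCyclic_of_injective (inclusion hSP) (inclusion_injective hSP)

/-- The odd primes are harmless, and so is any prime whose Sylow subgroups are cyclic. -/
theorem CA.cyclic_of_dvd_index (h : CA G) (M : Subgroup G) [M.Normal] {p : ℕ} [Fact p.Prime]
    (hp : p ≠ 2) (hi : p ∣ M.index) (hM : p ∣ Nat.card M) (P : Sylow p G) :
    IsCyclic ↥(P : Subgroup G) := by
  refine (h.cyclic_or_exponent hp P.isPGroup').resolve_right fun he => ?_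
  obtain ⟨m, hm⟩ := exists_prime_orderOf_dvd_card' p hM
  refine P.not_dvd_index (hi.trans (index_dvd_of_le ?_))
  intro x hx
  by_cases hx1 : x = 1
  · rw [hx1]; exact one_mem M
  · exact h.mem_of_orderOf_eq m.2 (by rw [Subgroup.orderOf_coe, hm, orderOf_eq_prime (he x hx) hx1])

/-- The quotient by `M` inherits the property unless the prime two gets in the way. -/
theorem CA.quotient_of (h : CA G) (M : Subgroup G) [M.Normal]
    (h2 : 2 ∣ M.index → 2 ∣ Nat.card M → ∀ P : Sylow 2 G, IsCyclic ↥(P : Subgroup G)) :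
    CA (G ⧸ M) := by
  have hcyc : ∀ p : ℕ, p.Prime → p ∣ M.index → p ∣ Nat.card M →
      ∀ P : Sylow p G, IsCyclic ↥(P : Subgroup G) := by
    intro p hp hi hM P
    have := Fact.mk hp
    by_cases h' : p = 2
    · subst h'; exact h2 hi hM P
    · exact h.cyclic_of_dvd_index M h' hi hM P
  have hok : ∀ p : ℕ, p.Prime → OkPrime M p := by
    intro p hp
    have := Fact.mk hp
    by_cases hM : p ∣ Nat.card M
    · exact fun hi => okPrime_of_cyclic M p (hcyc p hp hi hM) hi
    · exact okPrime_of_not_dvd M p hM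
  intro A B hA hB he
  refine conj_of_supplements M hok (fun H K hHn hKn hH hK hHp hKp hcard => ?_) hA hB he
  have habel : ∀ L : Subgroup G, Group.IsNilpotent ↥L → ⁅L, L⁆ ≤ M →
      (∀ (p : ℕ), p.Prime → ∀ S : Sylow p L, (S : Subgroup L) ≠ ⊥ → p ∣ M.index) →
      IsMulCommutative ↥L := by
    intro L hLn hL hLp
    refine isMulCommutative_of_sylow hLn fun p hp S => ?_
    have := Fact.mk hp
    by_cases hS : (S : Subgroup L) = ⊥
    · rw [hS]; infer_instance
    have hSp : IsPGroup p ↥((S : Subgroup L).map L.subtype) := S.isPGroup'.map _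
    by_cases hM : p ∣ Nat.card M
    · have := IsPGroup.isCyclic_of_all_sylow (hcyc p hp (hLp p hp S hS) hM) hSp
      have : IsCyclic ↥(S : Subgroup L) := isCyclic_of_injective
        ((S : Subgroup L).equivMapOfInjective L.subtype L.subtype_injective).toMonoidHom
        (MulEquiv.injective _)
      infer_instance
    · refine isMulCommutative_of_comm fun a ha b hb => ?_
      rw [← commutatorElement_eq_one_iff_mul_comm]
      have hc : ⁅a, b⁆ ∈ (S : Subgroup L) := by
        rw [commutatorElement_def]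
        exact mul_mem (mul_mem (mul_mem ha hb) (inv_mem ha)) (inv_mem hb)
      have hcM : ((⁅a, b⁆ : L) : G) ∈ M := hL (commutator_mem_commutator a.2 b.2)
      obtain ⟨j, hj⟩ := S.isPGroup'.exists_orderOf_eq_pow ⟨_, hc⟩
      rw [Subgroup.orderOf_mk] at hj
      have h1 := Subgroup.orderOf_dvd_natCard M hcM
      rw [Subgroup.orderOf_coe, hj] at h1
      rcases Nat.eq_zero_or_pos j with rfl | hj0
      · exact orderOf_eq_one_iff.mp (hj.trans (pow_zero p))
      · exact absurd ((dvd_pow_self p hj0.ne').trans h1) hM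
  exact h H K (habel H hHn hH hHp) (habel K hKn hK hKp) hcard

/-- Quotients by normal subgroups of odd order inherit the property. -/
theorem CA.quotient_of_odd (h : CA G) (M : Subgroup G) [M.Normal] (hM : Odd (Nat.card M)) :
    CA (G ⧸ M) :=
  h.quotient_of M fun _ h2 => absurd (even_iff_two_dvd.mpr h2) (Nat.not_even_iff_odd.mpr hM)

end CfsgLib.ConjAbelian
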