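import Cfsg.Agent.Lib.ConjAbelian.Solvable

/-!
# Every quotient of a solvable group with conjugate abelian subgroups has that property
-/

set_option autoImplicit false

open Subgroup
open scoped commutatorElement

namespace CfsgLib.ConjAbelian

universe u

variable {G : Type u} [Group G] [Finite G]

/-- A two-subgroup of maximal order inside a subgroup is Sylow there. -/
theorem exists_conj_of_max_two {C S S' : Subgroup G} (hS : IsPGroup 2 ↥S) (hS' : IsPGroup 2 ↥S')
    (hSC : S ≤ C) (hS'C : S' ≤ C)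
    (hmax : ∀ U : Subgroup G, IsPGroup 2 ↥U → Nat.card U ≤ Nat.card S)
    (he : Nat.card S = Nat.card S') : ∃ c ∈ C, S' = S.map (MulAut.conj c).toMonoidHom := by
  have : Fact (Nat.Prime 2) := ⟨Nat.prime_two⟩
  have hsyl : ∀ U : Subgroup G, IsPGroup 2 ↥U → U ≤ C → Nat.card U = Nat.card S →
      ∃ Q : Sylow 2 C, (Q : Subgroup C).map C.subtype = U := by
    intro U hU hUC hUe
    obtain ⟨Q, hQ⟩ := (hU.comap_subtype (K := C)).exists_le_sylow
    refine ⟨Q, (eq_of_le_of_card_ge ?_ ?_).symm⟩
    · intro x hx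
      exact ⟨⟨x, hUC hx⟩, hQ hx, rfl⟩
    · rw [hUe]; exact hmax _ (Q.isPGroup'.map _)
  obtain ⟨Q, hQ⟩ := hsyl S hS hSC rfl
  obtain ⟨Q', hQ'⟩ := hsyl S' hS' hS'C he.symm
  obtain ⟨c, hc⟩ := MulAction.exists_smul_eq C Q Q'
  refine ⟨c, c.2, ?_⟩
  rw [← hQ', ← hQ, ← hc, Sylow.coe_subgroup_smul, CfsgLib.Solvable.conj_smul_eq_map, map_map,
    map_map]
  congr 1

/-- A nilpotent subgroup with commutators in a group of order two splits off its two-part. -/
theorem exists_odd_factor {M L : Subgroup G} (hM : Nat.card M = 2) (hL : Group.IsNilpotent ↥L)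
    (hLM : ⁅L, L⁆ ≤ M) (S : Sylow 2 L) :
    ∃ R : Subgroup G, IsMulCommutative ↥R ∧
      (S : Subgroup L).map L.subtype ≤ centralizer (R : Set G) ∧
      L = (S : Subgroup L).map L.subtype ⊔ R ∧
      Nat.card L = Nat.card (S : Subgroup L) * Nat.card R := by
  have : Fact (Nat.Prime 2) := ⟨Nat.prime_two⟩
  have hSn : (S : Subgroup L).Normal :=
    (Group.isNilpotent_of_finite_tfae.out 0 3 rfl rfl).mp hL 2 inferInstance S
  obtain ⟨R, hR⟩ := exists_right_complement'_of_coprime (N := (S : Subgroup L)) S.card_coprime_index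
  have hRodd : ¬ 2 ∣ Nat.card R := by
    rw [← hR.symm.index_eq_card]
    exact S.not_dvd_index
  have hRc : (Nat.card R).Coprime 2 := (Nat.prime_two.coprime_iff_not_dvd.mpr hRodd).symm
  refine ⟨R.map L.subtype, ?_, ?_, ?_, ?_⟩
  · refine isMulCommutative_of_comm ?_
    rintro _ ⟨a, ha, rfl⟩ _ ⟨b, hb, rfl⟩
    rw [← commutatorElement_eq_one_iff_mul_comm, ← map_commutatorElement]
    have hc : ⁅a, b⁆ ∈ R := by
      rw [commutatorElement_def]
      exact mul_mem (mul_mem (mul_mem ha hb) (inv_mem ha)) (inv_mem hb)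
    have hcM : (L.subtype ⁅a, b⁆) ∈ M := hLM (by
      rw [map_commutatorElement]; exact commutator_mem_commutator a.2 b.2)
    have h1 := Subgroup.orderOf_dvd_natCard M hcM
    have h2 := Subgroup.orderOf_dvd_natCard R hc
    rw [hM, orderOf_injective L.subtype L.subtype_injective] at h1
    have h3 : orderOf ⁅a, b⁆ = 1 := Nat.eq_one_of_dvd_coprimes hRc h2 h1
    rw [orderOf_eq_one_iff.mp h3, map_one]
  · rintro _ ⟨s, hs, rfl⟩
    refine mem_centralizer_iff.mpr ?_
    rintro _ ⟨r, hr, rfl⟩
    rw [← map_mul, ← map_mul]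
    exact congrArg _ ((mem_centralizer_iff.mp (le_centralizer_of_nilpotent S.isPGroup' hRc hr) s hs).symm)
  · rw [← Subgroup.map_sup, hR.sup_eq_top, ← MonoidHom.range_eq_map, range_subtype]
  · rw [card_map_of_injective L.subtype_injective, hR.card_mul]

/-- The quotient by a normal subgroup of order two. -/
theorem CA.quotient_card_two (h : CA G) (M : Subgroup G) [M.Normal] (hM : Nat.card M = 2)
    (hS : ∀ S : Subgroup G, IsPGroup 2 ↥S → ¬ IsMulCommutative ↥S →
      ∀ U : Subgroup G, IsPGroup 2 ↥U → Nat.card U ≤ Nat.card S) :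
    CA (G ⧸ M) := by
  have : Fact (Nat.Prime 2) := ⟨Nat.prime_two⟩
  obtain ⟨z, hz⟩ := exists_prime_orderOf_dvd_card' (G := M) 2 (by rw [hM])
  have hok : ∀ p : ℕ, p.Prime → OkPrime M p := by
    intro p hp
    have := Fact.mk hp
    by_cases h2 : p = 2
    · subst h2
      intro _ S hS2 hSM
      have hSne : Nontrivial S := by
        rw [Subgroup.nontrivial_iff_ne_bot]
        rintro rfl
        exact hSM bot_le
      obtain ⟨j, hj, hj'⟩ := hS2.nontrivial_iff_card.mp hSne
      obtain ⟨u, hu⟩ := exists_prime_orderOf_dvd_card' (G := S) 2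
        (hj' ▸ dvd_pow_self 2 hj.ne')
      have huM : (u : G) ∈ M :=
        h.mem_of_orderOf_eq z.2 (by rw [Subgroup.orderOf_coe, Subgroup.orderOf_coe, hz, hu])
      have hle : M ≤ S := by
        refine le_trans (le_of_eq (eq_of_le_of_card_ge (zpowers_le.mpr huM) ?_).symm)
          (zpowers_le.mpr u.2)
        rw [Nat.card_zpowers, Subgroup.orderOf_coe, hu, hM]
      rw [inf_eq_right.mpr hle, hM, Nat.Prime.factorization_self Nat.prime_two, pow_one]
    · refine okPrime_of_not_dvd M p ?_
      rw [hM]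
      exact fun hd => h2 ((Nat.prime_dvd_prime_iff_eq hp Nat.prime_two).mp hd)
  intro A B hA hB he
  refine conj_of_supplements M hok (fun H K hHn hKn hH hK _ _ hcard => ?_) hA hB he
  have habel : ∀ L : Subgroup G, Group.IsNilpotent ↥L → ⁅L, L⁆ ≤ M →
      (∀ S : Sylow 2 L, IsMulCommutative ↥(S : Subgroup L)) → IsMulCommutative ↥L := by
    intro L hLn hL h2
    refine isMulCommutative_of_sylow hLn fun p hp S => ?_
    have := Fact.mk hp
    by_cases h' : p = 2
    · subst h'; exact h2 S
    refine isMulCommutative_of_comm fun a ha b hb => ?_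
    rw [← commutatorElement_eq_one_iff_mul_comm]
    have hc : ⁅a, b⁆ ∈ (S : Subgroup L) := by
      rw [commutatorElement_def]
      exact mul_mem (mul_mem (mul_mem ha hb) (inv_mem ha)) (inv_mem hb)
    obtain ⟨j, hj⟩ := S.isPGroup'.exists_orderOf_eq_pow ⟨_, hc⟩
    rw [Subgroup.orderOf_mk] at hj
    have h1 := Subgroup.orderOf_dvd_natCard M
      (show ((⁅a, b⁆ : L) : G) ∈ M from hL (commutator_mem_commutator a.2 b.2))
    rw [Subgroup.orderOf_coe, hj, hM] at h1
    rcases Nat.eq_zero_or_pos j with rfl | hj0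
    · exact orderOf_eq_one_iff.mp (hj.trans (pow_zero p))
    · exact absurd ((Nat.prime_dvd_prime_iff_eq hp Nat.prime_two).mp
        ((dvd_pow_self p hj0.ne').trans h1)) h'
  have hiff : ∀ (L : Subgroup G) (S : Sylow 2 L),
      IsMulCommutative ↥((S : Subgroup L).map L.subtype) → IsMulCommutative ↥(S : Subgroup L) :=
    fun L S hc => isMulCommutative_of_comm fun a ha b hb => L.subtype_injective (by
      rw [map_mul, map_mul]
      exact congrArg Subtype.val (hc.is_comm.comm ⟨_, mem_map_of_mem L.subtype ha⟩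
        ⟨_, mem_map_of_mem L.subtype hb⟩))
  have hsame : ∀ (S : Sylow 2 H) (T : Sylow 2 K),
      Nat.card ((S : Subgroup H).map H.subtype) = Nat.card ((T : Subgroup K).map K.subtype) := by
    intro S T
    rw [card_map_of_injective H.subtype_injective, card_map_of_injective K.subtype_injective,
      S.card_eq_multiplicity, T.card_eq_multiplicity, hcard]
  -- the nonabelian two-part is a Sylow subgroup of the whole group
  have hmain : ∀ S : Sylow 2 H, ∀ T : Sylow 2 K,
      (∀ U : Subgroup G, IsPGroup 2 ↥U → Nat.card U ≤ Nat.card ((S : Subgroup H).map H.subtype)) →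
      ∃ g : G, K = H.map (MulAut.conj g).toMonoidHom := by
    intro S T hmax
    obtain ⟨R, hRc, hSR, hHeq, hHcard⟩ := exists_odd_factor hM hHn hH S
    obtain ⟨Q, hQc, hTQ, hKeq, hKcard⟩ := exists_odd_factor hM hKn hK T
    have hRQ : Nat.card R = Nat.card Q := by
      have h1 := hsame S T
      rw [card_map_of_injective H.subtype_injective, card_map_of_injective K.subtype_injective] at h1
      rw [hHcard, hKcard, h1] at hcard
      exact Nat.eq_of_mul_eq_mul_left Nat.card_pos hcard
    obtain ⟨g, hg⟩ := h R Q hRc hQc hRQ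
    set f := (MulAut.conj g).toMonoidHom with hf
    set S' := ((S : Subgroup H).map H.subtype).map f
    have hS'C : S' ≤ centralizer (Q : Set G) := by
      rintro _ ⟨s, hs, rfl⟩
      refine mem_centralizer_iff.mpr ?_
      rw [hg]
      rintro _ ⟨r, hr, rfl⟩
      rw [← map_mul, ← map_mul, mem_centralizer_iff.mp (hSR hs) r hr]
    obtain ⟨c, hc, hcT⟩ := exists_conj_of_max_two ((S.isPGroup'.map _).map f) (T.isPGroup'.map _)
      hS'C hTQ (fun U hU => (hmax U hU).trans (card_map_of_injective (MulEquiv.injective _)).ge)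
      ((card_map_of_injective (MulEquiv.injective _)).trans (hsame S T))
    refine ⟨c * g, ?_⟩
    have hQfix : Q.map (MulAut.conj c).toMonoidHom = Q := by
      ext x
      constructor
      · rintro ⟨q, hq, rfl⟩
        rw [MulEquiv.coe_toMonoidHom, MulAut.conj_apply, ← mem_centralizer_iff.mp hc q hq,
          mul_inv_cancel_right]
        exact hq
      · intro hx
        refine ⟨x, hx, ?_⟩
        rw [MulEquiv.coe_toMonoidHom, MulAut.conj_apply, ← mem_centralizer_iff.mp hc x hx,
          mul_inv_cancel_right]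
    have hcomp : (MulAut.conj (c * g)).toMonoidHom = (MulAut.conj c).toMonoidHom.comp f := by
      ext x
      simp [hf, mul_assoc]
    rw [hHeq, Subgroup.map_sup, hcomp, ← map_map, ← map_map, ← hg, hQfix, ← hcT]
    exact hKeq
  by_cases hHa : ∀ S : Sylow 2 H, IsMulCommutative ↥(S : Subgroup H)
  · by_cases hKa : ∀ T : Sylow 2 K, IsMulCommutative ↥(T : Subgroup K)
    · exact h H K (habel H hHn hH hHa) (habel K hKn hK hKa) hcard
    · push Not at hKa
      obtain ⟨T, hT⟩ := hKa
      obtain ⟨S⟩ := (inferInstance : Nonempty (Sylow 2 H))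
      refine hmain S T fun U hU => ?_
      rw [hsame S T]
      exact hS _ (T.isPGroup'.map _) (fun hc => hT (hiff K T hc)) U hU
  · push Not at hHa
    obtain ⟨S, hS1⟩ := hHa
    obtain ⟨T⟩ := (inferInstance : Nonempty (Sylow 2 K))
    exact hmain S T (hS _ (S.isPGroup'.map _) fun hc => hS1 (hiff H S hc))

/-- A nonabelian two-subgroup of a solvable group with the property is a Sylow subgroup. -/
theorem CA.nonabelian_two_max (h : CA G) (hsol : Group.IsSolvable G) (S : Subgroup G)
    (hS : IsPGroup 2 ↥S) (hna : ¬ IsMulCommutative ↥S) (U : Subgroup G) (hU : IsPGroup 2 ↥U) :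
    Nat.card U ≤ Nat.card S := by
  have : Fact (Nat.Prime 2) := ⟨Nat.prime_two⟩
  have hexp : ∀ W : Subgroup G, (∀ x ∈ W, x ^ 2 = 1) → IsMulCommutative ↥W := fun W h1 =>
    isMulCommutative_of_comm fun a ha b hb => by
      have h2 : ∀ x ∈ W, x⁻¹ = x := fun x hx =>
        inv_eq_of_mul_eq_one_right (by rw [← sq, h1 x hx])
      calc a * b = (a * b)⁻¹ := (h2 _ (mul_mem ha hb)).symm
        _ = b⁻¹ * a⁻¹ := mul_inv_rev a b
        _ = b * a := by rw [h2 a ha, h2 b hb]
  obtain ⟨P, hSP⟩ := hS.exists_le_sylow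
  obtain ⟨Q, hUQ⟩ := hU.exists_le_sylow
  have hPU : Nat.card U ≤ Nat.card (P : Subgroup G) :=
    (card_le_of_le hUQ).trans (by rw [P.card_eq_multiplicity, Q.card_eq_multiplicity])
  rcases h.pGroup_dichotomy P.isPGroup' with h1 | h1
  · exact absurd (hexp S fun x hx => h1 x (hSP hx)) hna
  have huniq : UniqueInv (P : Subgroup G) := by
    intro u v hu hu1 hv hv1
    obtain ⟨j, rfl⟩ := Subgroup.mem_zpowers_iff.mp (h1 u v hu hu1 hv)
    obtain ⟨i, rfl | rfl⟩ := Int.even_or_odd' j
    · exact absurd (by rw [zpow_mul, zpow_ofNat, hu, one_zpow]) hv1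
    · rw [zpow_add, zpow_mul, zpow_ofNat, hu, one_zpow, one_mul, zpow_one]
  rcases card_le_eight _ G rfl hsol h P huniq with hc | hc
  · have : IsCyclic ↥S := isCyclic_of_injective (inclusion hSP) (inclusion_injective hSP)
    exact absurd (inferInstance : IsMulCommutative ↥S) hna
  refine (hPU.trans hc).trans ?_
  obtain ⟨j, hj⟩ := hS.exists_card_eq
  by_contra hlt
  rw [hj] at hlt
  have hj2 : j ≤ 2 := by
    by_contra h3
    exact hlt ((show (8 : ℕ) = 2 ^ 3 from rfl).le.trans (Nat.pow_le_pow_right (by norm_num) (by omega)))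
  apply hna
  interval_cases j
  · have : IsCyclic ↥S := by
      have : S = ⊥ := card_eq_one.mp (by rw [hj, pow_zero])
      subst this
      infer_instance
    infer_instance
  · have : IsCyclic ↥S := isCyclic_of_prime_card (p := 2) (by rw [hj, pow_one])
    infer_instance
  · exact IsPGroup.isMulCommutative_of_card_eq_prime_sq (p := 2) hj

/-- Every quotient of a solvable group with conjugate abelian subgroups has that property. -/
theorem CA.quotient_solvable : ∀ (n : ℕ) (G : Type u) [Group G] [Finite G], Nat.card G = n →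
    Group.IsSolvable G → CA G → ∀ (M : Subgroup G) [M.Normal], CA (G ⧸ M) := by
  intro n
  induction n using Nat.strong_induction_on with
  | _ n ih =>
  intro G _ _ hn hsol h M _
  by_cases hM : M = ⊥
  · subst hM
    exact h.of_equiv QuotientGroup.quotientBot.symm
  obtain ⟨N, hNn, hN, hNM, hmin⟩ := CfsgLib.Solvable.exists_minimal_normal_le M hM
  obtain ⟨hNc, q, hq, hNexp⟩ := CfsgLib.Solvable.minimal_normal_elementary_abelian N hN hmin
  have := Fact.mk hq
  have hNp : IsPGroup q ↥N := fun x => ⟨1, Subtype.ext (by simpa using hNexp x x.2)⟩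
  have hQ : CA (G ⧸ N) := by
    by_cases hq2 : q = 2
    · subst hq2
      by_cases h4 : 2 ^ 2 ≤ Nat.card N
      · refine h.quotient_of N fun hi _ => ?_
        exfalso
        obtain ⟨P⟩ := (inferInstance : Nonempty (Sylow 2 G))
        exact P.not_dvd_index (hi.trans (index_dvd_of_le
          (h.le_of_elementary hNp ⟨hNc, hNexp⟩ h4 P.isPGroup')))
      · obtain ⟨j, hj⟩ := hNp.exists_card_eq
        have hj1 : j = 1 := by
          rw [hj] at h4
          have h5 : 1 < 2 ^ j := hj ▸ N.one_lt_card_iff_ne_bot.mpr hN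
          rcases j with _ | _ | j
          · simp at h5
          · rfl
          · exact absurd (Nat.pow_le_pow_right (by norm_num) (by omega)) h4
        exact h.quotient_card_two N (by rw [hj, hj1, pow_one]) (h.nonabelian_two_max hsol)
    · exact h.quotient_of_odd N (odd_of_isPGroup hq2 hNp)
  have hlt : Nat.card (G ⧸ N) < n := by
    rw [← hn, ← Subgroup.index_eq_card, ← N.card_mul_index]
    exact lt_mul_of_one_lt_left (Nat.pos_of_ne_zero FiniteIndex.index_ne_zero)
      (N.one_lt_card_iff_ne_bot.mpr hN)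
  have hMN : (M.map (QuotientGroup.mk' N)).Normal :=
    (inferInstance : M.Normal).map _ (QuotientGroup.mk'_surjective N)
  exact (ih _ hlt (G ⧸ N) rfl (Group.isSolvable_of_surjective (QuotientGroup.mk'_surjective N)) hQ
    (M.map (QuotientGroup.mk' N))).of_equiv (QuotientGroup.quotientQuotientEquivQuotient N M hNM)

end CfsgLib.ConjAbelian
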