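import Cfsg.Agent.Lib.ConjAbelian.Descent
import Cfsg.Agent.Lib.Solvable.Core
import Cfsg.Agent.Lib.Solvable.SchurZassenhaus
import Cfsg.Agent.Lib.Solvable.UniqueInvolution

/-!
# Solvable groups with conjugate abelian subgroups
-/

set_option autoImplicit false

open Subgroup

namespace CfsgLib.ConjAbelian

universe u

theorem CA.of_equiv {G G' : Type u} [Group G] [Group G'] (h : CA G) (e : G ≃* G') : CA G' := by
  intro A B hA hB he
  have habel : ∀ C : Subgroup G', IsMulCommutative ↥C →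
      IsMulCommutative ↥(C.map e.symm.toMonoidHom) := fun C hC =>
    isMulCommutative_of_comm fun a ⟨a', ha, hae⟩ b ⟨b', hb, hbe⟩ => by
      rw [← hae, ← hbe, ← map_mul, ← map_mul,
        show a' * b' = b' * a' from congrArg Subtype.val (hC.is_comm.comm ⟨a', ha⟩ ⟨b', hb⟩)]
  obtain ⟨g, hg⟩ := h _ _ (habel A hA) (habel B hB) (by
    rw [card_map_of_injective e.symm.injective, card_map_of_injective e.symm.injective, he])
  refine ⟨e g, ?_⟩
  apply map_injective (f := e.symm.toMonoidHom) e.symm.injective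
  rw [hg, map_map, map_map]
  congr 1
  ext x
  simp

variable {G : Type u} [Group G] [Finite G]

/-- Unique involution, as a property of a subgroup. -/
def UniqueInv (P : Subgroup G) : Prop :=
  ∀ u v : P, u ^ 2 = 1 → u ≠ 1 → v ^ 2 = 1 → v ≠ 1 → u = v

theorem card_le_two_of_uniqueInv {P N : Subgroup G} (hP : UniqueInv P) (hNP : N ≤ P)
    (h2 : ∀ x ∈ N, x ^ 2 = 1) : Nat.card N ≤ 2 := by
  by_contra hlt
  push Not at hlt
  obtain ⟨u, hu, hu1⟩ := (bot_or_exists_ne_one N).resolve_left
    (by rintro rfl; rw [card_bot] at hlt; omega)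
  have hle : N ≤ zpowers u := by
    intro v hv
    by_cases hv1 : v = 1
    · rw [hv1]; exact one_mem _
    have := hP ⟨u, hNP hu⟩ ⟨v, hNP hv⟩ (Subtype.ext (h2 u hu)) (fun e => hu1 (congrArg Subtype.val e))
      (Subtype.ext (h2 v hv)) (fun e => hv1 (congrArg Subtype.val e))
    rw [← show u = v from congrArg Subtype.val this]
    exact mem_zpowers u
  have := Subgroup.card_le_of_le hle
  have h3 : orderOf u ≤ 2 := orderOf_le_of_pow_eq_one (by norm_num) (h2 u hu)
  rw [Nat.card_zpowers] at this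
  omega

theorem odd_of_isPGroup {q : ℕ} [Fact q.Prime] (hq : q ≠ 2) {H : Subgroup G} (hH : IsPGroup q ↥H) :
    Odd (Nat.card H) := by
  obtain ⟨j, hj⟩ := hH.exists_card_eq
  rw [hj]
  exact ((Fact.out : q.Prime).odd_of_ne_two hq).pow

/-- In a solvable group with the property a noncyclic Sylow two-subgroup with one involution has
order at most eight. -/
theorem card_le_eight : ∀ (n : ℕ) (G : Type u) [Group G] [Finite G], Nat.card G = n →
    Group.IsSolvable G → CA G → ∀ P : Sylow 2 G, UniqueInv (P : Subgroup G) →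
      IsCyclic ↥(P : Subgroup G) ∨ Nat.card (P : Subgroup G) ≤ 8 := by
  intro n
  induction n using Nat.strong_induction_on with
  | _ n ih =>
  intro G _ _ hn hsol h P hP
  by_cases hodd : ∃ N : Subgroup G, N.Normal ∧ N ≠ ⊥ ∧ Odd (Nat.card N)
  · obtain ⟨N, hNn, hN, hNodd⟩ := hodd
    let f := QuotientGroup.mk' N
    have hinj : Function.Injective (f.subgroupMap (P : Subgroup G)) := by
      rw [injective_iff_map_eq_one]
      intro x hx
      have hxN : (x : G) ∈ N := by
        rw [← QuotientGroup.ker_mk' N]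
        exact MonoidHom.mem_ker.mpr (congrArg Subtype.val hx)
      obtain ⟨j, hj⟩ := P.isPGroup'.exists_orderOf_eq_pow x
      rcases Nat.eq_zero_or_pos j with rfl | hj0
      · exact orderOf_eq_one_iff.mp (hj.trans (pow_zero 2))
      · have h1 := Subgroup.orderOf_dvd_natCard N hxN
        rw [Subgroup.orderOf_coe, hj] at h1
        exact absurd (even_iff_two_dvd.mpr ((dvd_pow_self 2 hj0.ne').trans h1))
          (Nat.not_even_iff_odd.mpr hNodd)
    let e := MulEquiv.ofBijective _ ⟨hinj, f.subgroupMap_surjective (P : Subgroup G)⟩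
    let P' := P.mapSurjective (QuotientGroup.mk'_surjective N)
    have hlt : Nat.card (G ⧸ N) < n := by
      rw [← hn, ← Subgroup.index_eq_card, ← N.card_mul_index]
      exact lt_mul_of_one_lt_left (Nat.pos_of_ne_zero FiniteIndex.index_ne_zero)
        (N.one_lt_card_iff_ne_bot.mpr hN)
    have hsol' : Group.IsSolvable (G ⧸ N) :=
      Group.isSolvable_of_surjective (QuotientGroup.mk'_surjective N)
    have hP' : UniqueInv (P' : Subgroup (G ⧸ N)) := by
      intro u v hu hu1 hv hv1
      let e' : (P : Subgroup G) ≃* (P' : Subgroup (G ⧸ N)) := e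
      apply e'.symm.injective
      exact hP _ _ (by rw [← map_pow, hu, map_one]) (fun e1 => hu1 (by simpa using congrArg e' e1))
        (by rw [← map_pow, hv, map_one]) (fun e1 => hv1 (by simpa using congrArg e' e1))
    rcases ih _ hlt (G ⧸ N) rfl hsol' (h.quotient_of_odd N hNodd) P' hP' with hc | hc
    · have : IsCyclic ↥((P : Subgroup G).map f) := hc
      exact Or.inl (isCyclic_of_surjective (e.symm : ↥((P : Subgroup G).map f) →* _)
        e.symm.surjective)
    · refine Or.inr ?_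
      rw [Nat.card_congr e.toEquiv]
      exact hc
  push Not at hodd
  have hoddq : ∀ (q : ℕ) [Fact q.Prime] (N : Subgroup G), N.Normal → N ≠ ⊥ → IsPGroup q ↥N →
      q = 2 := fun q _ N hNn hN hNq => by
    by_contra hq
    exact (hodd N hNn hN) (odd_of_isPGroup hq hNq)
  rcases subsingleton_or_nontrivial G with hs | hnt
  · exact Or.inl inferInstance
  obtain ⟨N, hNn, hN, -, hmin⟩ := CfsgLib.Solvable.exists_minimal_normal_le (⊤ : Subgroup G) top_ne_bot
  obtain ⟨hNc, q, hq, hNexp⟩ := CfsgLib.Solvable.minimal_normal_elementary_abelian N hN hmin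
  have := Fact.mk hq
  have hNp : IsPGroup q ↥N := fun x => ⟨1, Subtype.ext (by simpa using hNexp x x.2)⟩
  obtain rfl : q = 2 := hoddq q N hNn hN hNp
  have hNP : N ≤ (P : Subgroup G) := hNp.le_sylow_of_normal P
  have hN2 : Nat.card N = 2 := by
    have h1 := card_le_two_of_uniqueInv hP hNP hNexp
    have h3 := N.one_lt_card_iff_ne_bot.mpr hN
    omega
  obtain ⟨z, hz, hz1⟩ := (bot_or_exists_ne_one N).resolve_left hN
  have hinv : ∀ x : G, x ^ 2 = 1 → x ∈ N := fun x hx => by
    by_cases hx1 : x = 1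
    · rw [hx1]; exact one_mem N
    · exact h.mem_of_orderOf_eq hz (by
        rw [orderOf_eq_prime (hNexp z hz) hz1, orderOf_eq_prime hx hx1])
  have hNz : ∀ x ∈ N, x ∈ center G := by
    intro x hx
    rw [mem_center_iff]
    intro g
    by_cases hx1 : x = 1
    · rw [hx1, one_mul, mul_one]
    have h1 : g * x * g⁻¹ ∈ N := hNn.conj_mem x hx g
    have h2 : (g * x * g⁻¹ : G) = x := by
      have := hP ⟨_, hNP h1⟩ ⟨x, hNP hx⟩ (Subtype.ext (hNexp _ h1))
        (fun e => hx1 (by simpa using congrArg Subtype.val e)) (Subtype.ext (hNexp x hx))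
        (fun e => hx1 (by simpa using congrArg Subtype.val e))
      exact congrArg Subtype.val this
    calc g * x = g * x * g⁻¹ * g := by rw [inv_mul_cancel_right]
      _ = x * g := by rw [h2]
  by_cases hPN : (P : Subgroup G) ≤ N
  · refine Or.inl (isCyclic_of_prime_card (p := 2) ?_)
    rw [show (P : Subgroup G) = N from le_antisymm hPN hNP, hN2]
  have hntQ : Nontrivial (G ⧸ N) := by
    refine QuotientGroup.nontrivial_iff.mpr fun e => hPN (e ▸ le_top)
  have hsol' : Group.IsSolvable (G ⧸ N) :=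
    Group.isSolvable_of_surjective (QuotientGroup.mk'_surjective N)
  obtain ⟨T', hTn, hT, -, hTmin⟩ :=
    CfsgLib.Solvable.exists_minimal_normal_le (⊤ : Subgroup (G ⧸ N)) top_ne_bot
  obtain ⟨hTc, q, hq, hTexp⟩ := CfsgLib.Solvable.minimal_normal_elementary_abelian T' hT hTmin
  have := Fact.mk hq
  set T := T'.comap (QuotientGroup.mk' N) with hTdef
  have hTpow : ∀ x ∈ T, x ^ q ∈ N := fun x hx => by
    rw [← QuotientGroup.eq_one_iff]
    exact hTexp _ hx
  have hTcomm : ∀ x ∈ T, ∀ y ∈ T, ∃ c ∈ N, y⁻¹ * x * y = x * c := by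
    intro x hx y hy
    refine ⟨x⁻¹ * (y⁻¹ * x * y), ?_, by group⟩
    rw [← QuotientGroup.eq_one_iff]
    have hc : (QuotientGroup.mk' N x) * QuotientGroup.mk' N y =
        QuotientGroup.mk' N y * QuotientGroup.mk' N x :=
      congrArg Subtype.val (hTc.is_comm.comm ⟨_, hx⟩ ⟨_, hy⟩)
    show QuotientGroup.mk' N _ = 1
    rw [map_mul, map_mul, map_mul, map_inv, map_inv, mul_assoc (QuotientGroup.mk' N y)⁻¹, hc,
      inv_mul_cancel_left, inv_mul_cancel]
  obtain ⟨t, htT, htN⟩ : ∃ t ∈ T, t ∉ N := by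
    by_contra hall
    push Not at hall
    apply hT
    rw [eq_bot_iff]
    intro x hx
    obtain ⟨g, rfl⟩ := QuotientGroup.mk'_surjective N x
    exact mem_bot.mpr ((QuotientGroup.eq_one_iff g).mpr (hall g hx))
  have ht2 : t ^ 2 ≠ 1 := fun e => htN (hinv t e)
  obtain rfl : q = 2 := by
    by_contra hq2
    have hodd2 : Odd q := hq.odd_of_ne_two hq2
    have hcomm : ∀ x ∈ T, ∀ y ∈ T, x ^ q = 1 → x * y = y * x := by
      intro x hx y hy hxq
      obtain ⟨c, hc, hcy⟩ := hTcomm x hx y hy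
      have hcc : Commute x c := (mem_center_iff.mp (hNz c hc) x)
      have h1 : (x * c) ^ q = 1 := by
        rw [← hcy, show y⁻¹ * x * y = MulAut.conj y⁻¹ x by simp, ← map_pow, hxq, map_one]
      rw [hcc.mul_pow, hxq, one_mul] at h1
      obtain ⟨j, hj⟩ := hodd2
      have : c = 1 := by
        rw [hj, pow_succ, pow_mul, hNexp c hc, one_pow, one_mul] at h1
        exact h1
      rw [this, mul_one] at hcy
      calc x * y = y * (y⁻¹ * x * y) := by group
        _ = y * x := by rw [hcy]
    let X : Subgroup G :=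
      { carrier := {x | x ∈ T ∧ x ^ q = 1}
        one_mem' := ⟨one_mem T, one_pow q⟩
        mul_mem' := fun {a b} ha hb => ⟨mul_mem ha.1 hb.1, by
          rw [(show Commute a b from hcomm a ha.1 b hb.1 ha.2).mul_pow, ha.2, hb.2, one_mul]⟩
        inv_mem' := fun {a} ha => ⟨inv_mem ha.1, by rw [inv_pow, ha.2, inv_one]⟩ }
    have hXn : X.Normal := ⟨fun x hx g => ⟨(hTn.comap _).conj_mem x hx.1 g, by
      rw [conj_pow, hx.2, mul_one, mul_inv_cancel]⟩⟩
    have hXp : IsPGroup q ↥X := fun x => ⟨1, Subtype.ext (by simpa using x.2.2)⟩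
    refine hq2 (hoddq q X hXn (fun e => ?_) hXp)
    have h1 : t ^ 2 ∈ X := ⟨pow_mem htT 2, by
      rw [← pow_mul, mul_comm, pow_mul, hNexp _ (hTpow t htT)]⟩
    rw [e, mem_bot] at h1
    exact ht2 h1
  have hT4 : ∀ x ∈ T, x ^ 4 = 1 := fun x hx => by
    rw [show (4 : ℕ) = 2 * 2 from rfl, pow_mul, hNexp _ (hTpow x hx)]
  have hto : orderOf t = 4 := orderOf_eq_prime_pow (p := 2) (n := 1) (by simpa using ht2)
    (by simpa using hT4 t htT)
  have hTnormal : T.Normal := hTn.comap _
  have h4T : ∀ x : G, orderOf x = 4 → x ∈ T := fun x hx =>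
    h.mem_of_orderOf_eq htT (by rw [hto, hx])
  rcases CfsgLib.Solvable.isCyclic_or_quaternion_of_unique_involution P.isPGroup' hP with
    hc | ⟨k, ⟨e⟩⟩
  · exact Or.inl hc
  refine Or.inr ?_
  have : NeZero (2 ^ k) := ⟨(Nat.two_pow_pos k).ne'⟩
  have hxa : ∀ i, ((e.symm (QuaternionGroup.xa i) : (P : Subgroup G)) : G) ∈ T := fun i =>
    h4T _ (by rw [Subgroup.orderOf_coe, MulEquiv.orderOf_eq, QuaternionGroup.orderOf_xa])
  have ha : ((e.symm (QuaternionGroup.a 1) : (P : Subgroup G)) : G) ∈ T := by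
    rw [show (QuaternionGroup.a 1 : QuaternionGroup (2 ^ k)) =
      QuaternionGroup.xa 0 * QuaternionGroup.xa (1 - ((2 ^ k : ℕ) : ZMod (2 * 2 ^ k))) by
        rw [QuaternionGroup.xa_mul_xa]; congr 1; ring, map_mul, Subgroup.coe_mul]
    exact mul_mem (hxa _) (hxa _)
  have h5 : orderOf (QuaternionGroup.a 1 : QuaternionGroup (2 ^ k)) ∣ 4 := by
    rw [← MulEquiv.orderOf_eq e.symm, ← Subgroup.orderOf_coe]
    exact orderOf_dvd_of_pow_eq_one (hT4 _ ha)
  rw [QuaternionGroup.orderOf_a_one] at h5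
  have := Nat.le_of_dvd (by norm_num) h5
  rw [Nat.card_congr e.toEquiv, Nat.card_eq_fintype_card, QuaternionGroup.card]
  omega

end CfsgLib.ConjAbelian
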